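import Mathlib

set_option autoImplicit false

/-!
A group generated by commuting pairs of involutions with commutator a central involution: its order, its centre
and the groups of odd order it can act on (owner: helper24).
-/

namespace CfsgLib.Recog.SporBound.Fi22Pair

open Subgroup
open scoped commutatorElement

variable {A : Type*} [Group A]

/-- Commuting pairs of involutions `u i, v i` with commutator the involution `z`. -/
structure Pairs (z : A) (u v : ℕ → A) (n : ℕ) : Prop where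
  zsq : z * z = 1
  zne : z ≠ 1
  zu : ∀ i < n, Commute z (u i)
  zv : ∀ i < n, Commute z (v i)
  usq : ∀ i < n, u i * u i = 1
  vsq : ∀ i < n, v i * v i = 1
  uu : ∀ i < n, ∀ k < n, Commute (u i) (u k)
  vv : ∀ i < n, ∀ k < n, Commute (v i) (v k)
  uv : ∀ i < n, ∀ k < n, i ≠ k → Commute (u i) (v k)
  twist : ∀ i < n, u i * v i = z * (v i * u i)

theorem Pairs.mono {z : A} {u v : ℕ → A} {n m : ℕ} (P : Pairs z u v n) (h : m ≤ n) : Pairs z u v m :=
  ⟨P.zsq, P.zne, fun i hi => P.zu i (hi.trans_le h), fun i hi => P.zv i (hi.trans_le h),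
    fun i hi => P.usq i (hi.trans_le h), fun i hi => P.vsq i (hi.trans_le h),
    fun i hi k hk => P.uu i (hi.trans_le h) k (hk.trans_le h),
    fun i hi k hk => P.vv i (hi.trans_le h) k (hk.trans_le h),
    fun i hi k hk => P.uv i (hi.trans_le h) k (hk.trans_le h), fun i hi => P.twist i (hi.trans_le h)⟩

/-- The group generated by the centre and the first pairs. -/
def hull (z : A) (u v : ℕ → A) : ℕ → Subgroup A
  | 0 => zpowers z
  | n + 1 => hull z u v n ⊔ closure {u n, v n}

variable {z : A} {u v : ℕ → A} {n : ℕ}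

theorem hull_le_iff (H : Subgroup A) :
    hull z u v n ≤ H ↔ z ∈ H ∧ ∀ i < n, u i ∈ H ∧ v i ∈ H := by
  induction n with
  | zero => simp [hull, zpowers_le]
  | succ n ih =>
    rw [hull, sup_le_iff, ih, closure_le, Set.insert_subset_iff, Set.singleton_subset_iff]
    constructor
    · rintro ⟨⟨hz, h⟩, hu, hv⟩
      refine ⟨hz, fun i hi => ?_⟩
      rcases Nat.lt_succ_iff_lt_or_eq.1 hi with hi | rfl
      exacts [h i hi, ⟨hu, hv⟩]
    · rintro ⟨hz, h⟩
      exact ⟨⟨hz, fun i hi => h i (hi.trans (Nat.lt_succ_self n))⟩, h n (Nat.lt_succ_self n)⟩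

theorem mem_hull (z : A) (u v : ℕ → A) (n : ℕ) :
    z ∈ hull z u v n ∧ ∀ i < n, u i ∈ hull z u v n ∧ v i ∈ hull z u v n :=
  (hull_le_iff _).1 le_rfl

namespace Pairs

theorem commute_hull (P : Pairs z u v (n + 1)) {h : A} (hh : h ∈ hull z u v n) :
    Commute h (u n) ∧ Commute h (v n) := by
  have hn := Nat.lt_succ_self n
  have hu : hull z u v n ≤ centralizer ({u n} : Set A) := (hull_le_iff _).2
    ⟨mem_centralizer_singleton_iff.2 (P.zu n hn).eq, fun i hi =>
      ⟨mem_centralizer_singleton_iff.2 (P.uu i (hi.trans hn) n hn).eq,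
        mem_centralizer_singleton_iff.2 (P.uv n hn i (hi.trans hn) (Ne.symm hi.ne)).eq.symm⟩⟩
  have hv : hull z u v n ≤ centralizer ({v n} : Set A) := (hull_le_iff _).2
    ⟨mem_centralizer_singleton_iff.2 (P.zv n hn).eq, fun i hi =>
      ⟨mem_centralizer_singleton_iff.2 (P.uv i (hi.trans hn) n hn hi.ne).eq,
        mem_centralizer_singleton_iff.2 (P.vv i (hi.trans hn) n hn).eq⟩⟩
  exact ⟨mem_centralizer_singleton_iff.1 (hu hh), mem_centralizer_singleton_iff.1 (hv hh)⟩

theorem not_commute (P : Pairs z u v (n + 1)) : ¬ Commute (u n) (v n) := fun h => P.zne (by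
  have e := P.twist n (Nat.lt_succ_self n)
  rw [h.eq] at e
  exact right_eq_mul.1 e)

/-- The four representatives. -/
def rep4 (x y : A) (a b : Bool) : A := cond a x 1 * cond b y 1

theorem rep4_commute (P : Pairs z u v (n + 1)) (a b : Bool) :
    (Commute (rep4 (u n) (v n) a b) (u n) ↔ b = false) ∧
      (Commute (rep4 (u n) (v n) a b) (v n) ↔ a = false) := by
  have hnc := P.not_commute
  have hnc' : ¬ Commute (v n) (u n) := fun h => hnc h.symm
  have h1 : ¬ Commute (u n * v n) (u n) := fun h => hnc (by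
    have h' : u n * v n * u n = u n * (u n * v n) := h.eq
    rw [mul_assoc] at h'
    exact (mul_left_cancel h').symm)
  have h2 : ¬ Commute (u n * v n) (v n) := fun h => hnc (by
    have h' : u n * v n * v n = v n * (u n * v n) := h.eq
    rw [← mul_assoc (v n)] at h'
    exact mul_right_cancel h')
  cases a <;> cases b <;> simp [rep4, hnc, hnc', h1, h2, Commute.refl, Commute.one_left]

theorem rep4_hull_commute (P : Pairs z u v (n + 1)) (a b : Bool) {h : A} (hh : h ∈ hull z u v n) :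
    (Commute (rep4 (u n) (v n) a b * h) (u n) ↔ b = false) ∧
      (Commute (rep4 (u n) (v n) a b * h) (v n) ↔ a = false) := by
  obtain ⟨hu, hv⟩ := P.commute_hull hh
  rw [← (P.rep4_commute a b).1, ← (P.rep4_commute a b).2]
  refine ⟨⟨fun e => ?_, fun e => e.mul_left hu⟩, ⟨fun e => ?_, fun e => e.mul_left hv⟩⟩
  · simpa using e.mul_left hu.inv_left
  · simpa using e.mul_left hv.inv_left

theorem rep4_mem (z : A) (u v : ℕ → A) (n : ℕ) (a b : Bool) {h : A} (hh : h ∈ hull z u v n) :
    rep4 (u n) (v n) a b * h ∈ hull z u v (n + 1) := by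
  obtain ⟨hu, hv⟩ := (mem_hull z u v (n + 1)).2 n (Nat.lt_succ_self n)
  refine mul_mem (mul_mem ?_ ?_) (SetLike.le_def.1 (show hull z u v n ≤ hull z u v (n + 1) from le_sup_left) hh)
  · cases a <;> simp [hu]
  · cases b <;> simp [hv]

theorem exists_rep4 [Finite A] (P : Pairs z u v (n + 1)) {x : A} (hx : x ∈ hull z u v (n + 1)) :
    ∃ (a b : Bool) (h : A), h ∈ hull z u v n ∧ x = rep4 (u n) (v n) a b * h := by
  have hn := Nat.lt_succ_self n
  rw [hull, ← closure_eq (hull z u v n), ← Subgroup.closure_union] at hx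
  induction hx using closure_induction_left with
  | one => exact ⟨false, false, 1, one_mem _, by simp [rep4]⟩
  | mul_left g hg y _ ih =>
    obtain ⟨a, b, h, hh, rfl⟩ := ih
    rcases hg with hg | rfl | rfl
    · obtain ⟨gu, gv⟩ := P.commute_hull hg
      refine ⟨a, b, g * h, mul_mem hg hh, ?_⟩
      have hc : Commute g (rep4 (u n) (v n) a b) := by
        refine Commute.mul_right ?_ ?_
        · cases a <;> simp [gu]
        · cases b <;> simp [gv]
      rw [← mul_assoc, hc.eq, mul_assoc]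
    · refine ⟨!a, b, h, hh, ?_⟩
      cases a <;> simp [rep4, mul_assoc, ← mul_assoc (u n) (u n), P.usq n hn]
    · cases a
      · refine ⟨false, !b, h, hh, ?_⟩
        cases b <;> simp [rep4, ← mul_assoc, P.vsq n hn]
      · refine ⟨true, !b, z * h, mul_mem (mem_hull z u v n).1 hh, ?_⟩
        have hvu : v n * u n = z * (u n * v n) := by
          rw [P.twist n hn, ← mul_assoc z z, P.zsq, one_mul]
        have hzu := (P.zu n hn).eq
        have hzv := (P.zv n hn).eq
        cases b
        · simp only [rep4, cond_true, cond_false, Bool.not_false, mul_one]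
          rw [← mul_assoc (v n), hvu, ← mul_assoc (u n * v n), mul_assoc (u n) (v n) z, ← hzv,
            ← mul_assoc (u n), ← hzu, mul_assoc z (u n)]
        · simp only [rep4, cond_true, cond_false, Bool.not_true, mul_one]
          rw [← mul_assoc (v n), ← mul_assoc (v n), hvu, mul_assoc z (u n * v n), mul_assoc (u n) (v n) (v n),
            P.vsq n hn, mul_one, hzu, mul_assoc]
  | inv_mul_cancel g hg y _ ih =>
    obtain ⟨a, b, h, hh, rfl⟩ := ih
    rcases hg with hg | rfl | rfl
    · obtain ⟨gu, gv⟩ := P.commute_hull hg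
      refine ⟨a, b, g⁻¹ * h, mul_mem (inv_mem hg) hh, ?_⟩
      have hc : Commute g⁻¹ (rep4 (u n) (v n) a b) := by
        refine Commute.inv_left (Commute.mul_right ?_ ?_)
        · cases a <;> simp [gu]
        · cases b <;> simp [gv]
      rw [← mul_assoc, hc.eq, mul_assoc]
    · refine ⟨!a, b, h, hh, ?_⟩
      rw [inv_eq_of_mul_eq_one_right (P.usq n hn)]
      cases a <;> simp [rep4, mul_assoc, ← mul_assoc (u n) (u n), P.usq n hn]
    · rw [inv_eq_of_mul_eq_one_right (P.vsq n hn)]
      cases a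
      · refine ⟨false, !b, h, hh, ?_⟩
        cases b <;> simp [rep4, ← mul_assoc, P.vsq n hn]
      · refine ⟨true, !b, z * h, mul_mem (mem_hull z u v n).1 hh, ?_⟩
        have hvu : v n * u n = z * (u n * v n) := by
          rw [P.twist n hn, ← mul_assoc z z, P.zsq, one_mul]
        have hzu := (P.zu n hn).eq
        have hzv := (P.zv n hn).eq
        cases b
        · simp only [rep4, cond_true, cond_false, Bool.not_false, mul_one]
          rw [← mul_assoc (v n), hvu, ← mul_assoc (u n * v n), mul_assoc (u n) (v n) z, ← hzv,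
            ← mul_assoc (u n), ← hzu, mul_assoc z (u n)]
        · simp only [rep4, cond_true, cond_false, Bool.not_true, mul_one]
          rw [← mul_assoc (v n), ← mul_assoc (v n), hvu, mul_assoc z (u n * v n), mul_assoc (u n) (v n) (v n),
            P.vsq n hn, mul_one, hzu, mul_assoc]

theorem card_hull_ge [Finite A] (P : Pairs z u v n) : 2 * 4 ^ n ≤ Nat.card (hull z u v n) := by
  induction n with
  | zero =>
    rw [hull, Nat.card_zpowers, pow_zero, mul_one]
    refine le_of_eq (orderOf_eq_prime ?_ P.zne).symm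
    rw [pow_two, P.zsq]
  | succ n ih =>
    have key := Nat.card_le_card_of_injective
      (fun p : (Bool × Bool) × hull z u v n =>
        (⟨_, rep4_mem z u v n p.1.1 p.1.2 p.2.2⟩ : hull z u v (n + 1))) (by
        rintro ⟨⟨a, b⟩, h, hh⟩ ⟨⟨c, d⟩, h', hh'⟩ e
        have e' : rep4 (u n) (v n) a b * h = rep4 (u n) (v n) c d * h' := congrArg Subtype.val e
        obtain ⟨k1, k2⟩ := P.rep4_hull_commute a b hh
        obtain ⟨l1, l2⟩ := P.rep4_hull_commute c d hh'
        rw [e'] at k1 k2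
        obtain rfl : b = d := by cases b <;> cases d <;> simp_all
        obtain rfl : a = c := by cases a <;> cases c <;> simp_all
        exact Prod.ext rfl (Subtype.ext (mul_left_cancel e')))
    rw [Nat.card_prod, Nat.card_prod, Nat.card_eq_fintype_card (α := Bool), Fintype.card_bool] at key
    have := ih (P.mono n.le_succ)
    rw [pow_succ]
    omega

theorem mem_zpowers_of_commute [Finite A] : ∀ {n : ℕ}, Pairs z u v n → ∀ {x : A}, x ∈ hull z u v n →
    (∀ i < n, Commute x (u i) ∧ Commute x (v i)) → x ∈ zpowers z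
  | 0, _, _, hx, _ => hx
  | n + 1, P, x, hx, hc => by
    obtain ⟨a, b, h, hh, rfl⟩ := P.exists_rep4 hx
    obtain ⟨cu, cv⟩ := hc n (Nat.lt_succ_self n)
    obtain rfl := (P.rep4_hull_commute a b hh).1.1 cu
    obtain rfl := (P.rep4_hull_commute a false hh).2.1 cv
    simp only [rep4, cond_false, one_mul] at hc ⊢
    exact mem_zpowers_of_commute (P.mono n.le_succ) hh fun i hi => hc i (hi.trans (Nat.lt_succ_self n))

theorem z_central (P : Pairs z u v n) : hull z u v n ≤ centralizer ({z} : Set A) :=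
  (hull_le_iff _).2 ⟨mem_centralizer_singleton_iff.2 rfl, fun i hi =>
    ⟨mem_centralizer_singleton_iff.2 (P.zu i hi).eq.symm, mem_centralizer_singleton_iff.2 (P.zv i hi).eq.symm⟩⟩

theorem comm_sq (P : Pairs z u v n) :
    ∀ x ∈ hull z u v n, x * x ∈ zpowers z ∧ ∀ y ∈ hull z u v n, ⁅x, y⁆ ∈ zpowers z := by
  set S : Set A := {z} ∪ {g | ∃ i < n, g = u i ∨ g = v i}
  have hle : hull z u v n ≤ closure S := (hull_le_iff _).2 ⟨subset_closure (Or.inl rfl), fun i hi =>
    ⟨subset_closure (Or.inr ⟨i, hi, Or.inl rfl⟩), subset_closure (Or.inr ⟨i, hi, Or.inr rfl⟩)⟩⟩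
  have hzm : z ∈ zpowers z := mem_zpowers z
  have hzi : z⁻¹ ∈ zpowers z := inv_mem hzm
  have h1 : ∀ {x y : A}, Commute x y → ⁅x, y⁆ ∈ zpowers z := fun h => by
    rw [commutatorElement_eq_one_iff_mul_comm.2 h.eq]; exact one_mem _
  have hcl : closure S ≤ centralizer ({z} : Set A) := by
    refine (closure_le _).2 ?_
    rintro g (rfl | ⟨i, hi, rfl | rfl⟩)
    exacts [mem_centralizer_singleton_iff.2 rfl, mem_centralizer_singleton_iff.2 (P.zu i hi).eq.symm,
      mem_centralizer_singleton_iff.2 (P.zv i hi).eq.symm]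
  have hcent : ∀ {x e : A}, x ∈ closure S → e ∈ zpowers z → x * e = e * x := fun hx he => by
    obtain ⟨k, rfl⟩ := he
    exact ((show Commute _ z from mem_centralizer_singleton_iff.1 (hcl hx)).zpow_right k).eq
  have hgen : ∀ g ∈ S, g * g ∈ zpowers z ∧ ∀ g' ∈ S, ⁅g, g'⁆ ∈ zpowers z := by
    rintro g (rfl | ⟨i, hi, rfl | rfl⟩)
    · refine ⟨by rw [P.zsq]; exact one_mem _, ?_⟩
      rintro g' (rfl | ⟨k, hk, rfl | rfl⟩)
      exacts [h1 (Commute.refl _), h1 (P.zu k hk), h1 (P.zv k hk)]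
    · refine ⟨by rw [P.usq i hi]; exact one_mem _, ?_⟩
      rintro g' (rfl | ⟨k, hk, rfl | rfl⟩)
      · exact h1 (P.zu i hi).symm
      · exact h1 (P.uu i hi k hk)
      · rcases eq_or_ne i k with rfl | hne
        · rw [commutatorElement_def, P.twist i hi, show z * (v i * u i) * (u i)⁻¹ * (v i)⁻¹ = z by group]
          exact hzm
        · exact h1 (P.uv i hi k hk hne)
    · refine ⟨by rw [P.vsq i hi]; exact one_mem _, ?_⟩
      rintro g' (rfl | ⟨k, hk, rfl | rfl⟩)
      · exact h1 (P.zv i hi).symm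
      · rcases eq_or_ne k i with rfl | hne
        · rw [← commutatorElement_inv, commutatorElement_def, P.twist k hi,
            show (z * (v k * u k) * (u k)⁻¹ * (v k)⁻¹)⁻¹ = z⁻¹ by group]
          exact hzi
        · exact h1 (P.uv k hk i hi hne).symm
      · exact h1 (P.vv i hi k hk)
  have hR : ∀ x ∈ closure S, ∀ y ∈ closure S, ⁅x, y⁆ ∈ zpowers z := by
    intro x hx y hy
    induction hx, hy using closure_induction₂ with
    | mem x y hx hy => exact (hgen x hx).2 y hy
    | one_left y _ => rw [commutatorElement_one_left]; exact one_mem _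
    | one_right x _ => rw [commutatorElement_one_right]; exact one_mem _
    | mul_left x y w hx _ _ h1 h2 =>
      have : ⁅x * y, w⁆ = ⁅y, w⁆ * ⁅x, w⁆ := by
        calc ⁅x * y, w⁆ = x * ⁅y, w⁆ * x⁻¹ * ⁅x, w⁆ := by simp only [commutatorElement_def]; group
          _ = _ := by rw [hcent hx h2, mul_inv_cancel_right]
      rw [this]
      exact mul_mem h2 h1
    | mul_right y w x hy _ _ h1 h2 =>
      have : ⁅x, y * w⁆ = ⁅x, y⁆ * ⁅x, w⁆ := by
        calc ⁅x, y * w⁆ = ⁅x, y⁆ * (y * ⁅x, w⁆ * y⁻¹) := by simp only [commutatorElement_def]; group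
          _ = _ := by rw [hcent hy h2, mul_inv_cancel_right]
      rw [this]
      exact mul_mem h1 h2
    | inv_left x y hx _ h =>
      have : ⁅x⁻¹, y⁆ = ⁅x, y⁆⁻¹ := by
        calc ⁅x⁻¹, y⁆ = x⁻¹ * ⁅x, y⁆⁻¹ * x := by simp only [commutatorElement_def]; group
          _ = _ := by rw [hcent (inv_mem hx) (inv_mem h), inv_mul_cancel_right]
      rw [this]
      exact inv_mem h
    | inv_right x y _ hy h =>
      have : ⁅x, y⁻¹⁆ = ⁅x, y⁆⁻¹ := by
        calc ⁅x, y⁻¹⁆ = y⁻¹ * ⁅x, y⁆⁻¹ * y := by simp only [commutatorElement_def]; group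
          _ = _ := by rw [hcent (inv_mem hy) (inv_mem h), inv_mul_cancel_right]
      rw [this]
      exact inv_mem h
  intro x hx
  refine ⟨?_, fun y hy => hR x (hle hx) y (hle hy)⟩
  replace hx := hle hx
  induction hx using closure_induction with
  | mem g hg => exact (hgen g hg).1
  | one => rw [mul_one]; exact one_mem _
  | mul x y hx hy hx2 hy2 =>
    have e : x * y * (x * y) = ⁅x, y⁆⁻¹ * (x * x) * (y * y) := by
      have hb := hR x hx y hy
      calc x * y * (x * y) = x * (⁅x, y⁆⁻¹ * x) * (y * y) := by simp only [commutatorElement_def]; group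
        _ = _ := by rw [← mul_assoc x, hcent hx (inv_mem hb)]; simp only [mul_assoc]
    rw [e]
    exact mul_mem (mul_mem (inv_mem (hR x hx y hy)) hx2) hy2
  | inv x _ h => rw [← mul_inv_rev]; exact inv_mem h

/-- An involution normalising a group of odd order and fixing only the identity inverts it. -/
theorem inverts_of_fixed_free [Finite A] {K : Subgroup A} {t : A} (hodd : Odd (Nat.card K)) (ht : t * t = 1)
    (hn : ∀ k ∈ K, t * k * t⁻¹ ∈ K) (hfix : ∀ k ∈ K, t * k * t⁻¹ = k → k = 1) :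
    ∀ k ∈ K, t * k * t⁻¹ = k⁻¹ := by
  let φ : K → K := fun k => k⁻¹ * ⟨t * k * t⁻¹, hn k k.2⟩
  have hφ : Function.Injective φ := by
    rintro ⟨a, ha⟩ ⟨b, hb⟩ e
    have e' : a⁻¹ * (t * a * t⁻¹) = b⁻¹ * (t * b * t⁻¹) := congrArg Subtype.val e
    refine Subtype.ext (mul_inv_eq_one.1 (hfix _ (mul_mem hb (inv_mem ha)) ?_)).symm
    calc t * (b * a⁻¹) * t⁻¹ = b * (b⁻¹ * (t * b * t⁻¹)) * (t * a * t⁻¹)⁻¹ := by group
      _ = b * a⁻¹ := by rw [← e']; group
  intro k hk
  obtain ⟨⟨a, ha⟩, e⟩ := (Finite.injective_iff_surjective.1 hφ) ⟨k, hk⟩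
  have e' : a⁻¹ * (t * a * t⁻¹) = k := congrArg Subtype.val e
  subst e'
  have ht' : t⁻¹ = t := inv_eq_of_mul_eq_one_right ht
  calc t * (a⁻¹ * (t * a * t⁻¹)) * t⁻¹ = t * a⁻¹ * t * a * (t⁻¹ * t⁻¹) := by group
    _ = (a⁻¹ * (t * a * t⁻¹))⁻¹ := by
      rw [← mul_inv_rev, ht, inv_one, mul_one, mul_inv_rev, mul_inv_rev, mul_inv_rev, inv_inv, inv_inv, ht']
      simp only [mul_assoc]

/-- Doubling: a group of odd order inverted by the central involution is large. -/
theorem odd_bound [Finite A] : ∀ {n : ℕ}, Pairs z u v n → ∀ (K : Subgroup A), Odd (Nat.card K) → K ≠ ⊥ →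
    (∀ k ∈ K, z * k * z⁻¹ = k⁻¹) →
    (∀ i < n, ∀ k ∈ K, u i * k * (u i)⁻¹ ∈ K ∧ v i * k * (v i)⁻¹ ∈ K) → 3 ^ 2 ^ n ≤ Nat.card K
  | 0, _, K, hodd, hne, _, _ => by
    rw [pow_zero, pow_one]
    have h1 : Nat.card K ≠ 1 := fun h => hne (Subgroup.card_eq_one.1 h)
    obtain ⟨m, hm⟩ := hodd
    omega
  | n + 1, P, K, hodd, hne, hinv, hnorm => by
    have hn := Nat.lt_succ_self n
    set K' : Subgroup A := K ⊓ centralizer ({u n} : Set A) with hK'
    have hodd' : Odd (Nat.card K') := Odd.of_dvd_nat hodd (card_dvd_of_le inf_le_left)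
    have sq1 : ∀ k ∈ K, k⁻¹ = k → k = 1 := fun k hk e => by
      have : orderOf (⟨k, hk⟩ : K) ∣ 2 := orderOf_dvd_of_pow_eq_one (Subtype.ext (by
        show k ^ 2 = 1
        rw [pow_two]; nth_rewrite 1 [← e]; exact inv_mul_cancel k))
      have h' := orderOf_dvd_natCard (⟨k, hk⟩ : K)
      rcases (Nat.dvd_prime Nat.prime_two).1 this with h | h
      · exact congrArg Subtype.val (orderOf_eq_one_iff.1 h)
      · exact absurd (h ▸ h') (fun h => (Nat.not_even_iff_odd.2 hodd) (even_iff_two_dvd.2 h))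
    have hne' : K' ≠ ⊥ := by
      intro hbot
      have hiu := inverts_of_fixed_free hodd (P.usq n hn) (fun k hk => (hnorm n hn k hk).1) fun k hk e =>
        Subgroup.mem_bot.1 (hbot ▸ (⟨hk, mem_centralizer_singleton_iff.2 (mul_inv_eq_iff_eq_mul.1 e).symm⟩ : k ∈ K'))
      refine hne ((Subgroup.eq_bot_iff_forall _).2 fun k hk => sq1 k hk ?_)
      obtain ⟨hu', hv'⟩ := hnorm n hn k hk
      have e1 : u n * (v n * k * (v n)⁻¹) * (u n)⁻¹ = (v n * k * (v n)⁻¹)⁻¹ := hiu _ hv'
      have e2 : u n * (v n * k * (v n)⁻¹) * (u n)⁻¹ =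
          z * (v n * (u n * k * (u n)⁻¹) * (v n)⁻¹) * z⁻¹ := by
        rw [show u n * (v n * k * (v n)⁻¹) * (u n)⁻¹ = u n * v n * k * (u n * v n)⁻¹ by group, P.twist n hn]
        group
      rw [hiu k hk, show v n * k⁻¹ * (v n)⁻¹ = (v n * k * (v n)⁻¹)⁻¹ by group,
        hinv _ (inv_mem hv'), inv_inv] at e2
      have e3 := e1.symm.trans e2
      have e4 : (v n * k * (v n)⁻¹)⁻¹ = v n * k⁻¹ * (v n)⁻¹ := by group
      rw [e4] at e3
      exact mul_left_cancel (mul_right_cancel e3)
    have hcomm : ∀ i < n, ∀ k ∈ K', u i * k * (u i)⁻¹ ∈ K' ∧ v i * k * (v i)⁻¹ ∈ K' := by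
      intro i hi k hk
      have cu : Commute (u i) (u n) := P.uu i (hi.trans hn) n hn
      have cv : Commute (v i) (u n) := (P.uv n hn i (hi.trans hn) (Ne.symm hi.ne)).symm
      have ck : Commute k (u n) := mem_centralizer_singleton_iff.1 hk.2
      refine ⟨⟨(hnorm i (hi.trans hn) k hk.1).1, mem_centralizer_singleton_iff.2 ?_⟩,
        ⟨(hnorm i (hi.trans hn) k hk.1).2, mem_centralizer_singleton_iff.2 ?_⟩⟩
      exacts [((cu.mul_left ck).mul_left cu.inv_left).eq, ((cv.mul_left ck).mul_left cv.inv_left).eq]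
    have ih := odd_bound (P.mono n.le_succ) K' hodd' hne' (fun k hk => hinv k hk.1) hcomm
    have key := Nat.card_le_card_of_injective
      (fun p : K' × K' => (⟨(p.1 : A) * (v n * p.2 * (v n)⁻¹),
        mul_mem p.1.2.1 (hnorm n hn p.2 p.2.2.1).2⟩ : K)) (by
        rintro ⟨⟨a, ha⟩, ⟨b, hb⟩⟩ ⟨⟨c, hc⟩, ⟨d, hd⟩⟩ e
        have e' : a * (v n * b * (v n)⁻¹) = c * (v n * d * (v n)⁻¹) := congrArg Subtype.val e
        have hx : c⁻¹ * a = v n * (d * b⁻¹) * (v n)⁻¹ := by
          calc c⁻¹ * a = c⁻¹ * (a * (v n * b * (v n)⁻¹)) * (v n * b * (v n)⁻¹)⁻¹ := by group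
            _ = _ := by rw [e']; group
        have hw : d * b⁻¹ ∈ K' := mul_mem hd (inv_mem hb)
        have hx1 : c⁻¹ * a = 1 := by
          refine sq1 _ (mul_mem (inv_mem hc.1) ha.1) ?_
          have f1 : u n * (c⁻¹ * a) * (u n)⁻¹ = c⁻¹ * a := by
            have : Commute (c⁻¹ * a) (u n) := mem_centralizer_singleton_iff.1 (mul_mem (inv_mem hc) ha).2
            rw [← this.eq, mul_inv_cancel_right]
          have f2 : u n * (c⁻¹ * a) * (u n)⁻¹ = z * (c⁻¹ * a) * z⁻¹ := by
            have hwu : u n * (d * b⁻¹) * (u n)⁻¹ = d * b⁻¹ := by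
              have : Commute (d * b⁻¹) (u n) := mem_centralizer_singleton_iff.1 hw.2
              rw [← this.eq, mul_inv_cancel_right]
            rw [hx, show u n * (v n * (d * b⁻¹) * (v n)⁻¹) * (u n)⁻¹ =
              u n * v n * (d * b⁻¹) * (u n * v n)⁻¹ by group, P.twist n hn]
            conv_rhs => rw [← hwu]
            group
          rw [← hinv _ (mul_mem (inv_mem hc.1) ha.1), ← f2, f1]
        rw [inv_mul_eq_one] at hx1
        subst hx1
        obtain rfl : b = d := mul_left_cancel (mul_right_cancel (mul_left_cancel e'))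
        rfl)
    rw [Nat.card_prod] at key
    calc 3 ^ 2 ^ (n + 1) = 3 ^ 2 ^ n * 3 ^ 2 ^ n := by rw [← pow_add]; congr 1; ring
      _ ≤ Nat.card K' * Nat.card K' := Nat.mul_le_mul ih ih
      _ ≤ _ := key

end Pairs

end CfsgLib.Recog.SporBound.Fi22Pair
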