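import Cfsg.Agent.Lib.Recog.SporBound.Fi22Pair.Data
import Cfsg.Agent.Lib.Recog.SporBound.Fi22Aut.Checks

set_option autoImplicit false
set_option maxRecDepth 20000
set_option Elab.async false

/-! Kernel checks for the centralizer of a product of two commuting transpositions in Aut Fi22
(owner: helper24). -/

namespace CfsgLib.Recog.SporBound.Fi22Pair

open CfsgLib.ThreeTrans.CosetIndex
open CfsgLib.Recog.SporBound.Fi22Aut (path pal comB rv piTree)

/-- The image of a row under a product of transpositions. -/
noncomputable def evW (w : List ℕ) (c : ℕ) : ℕ :=
  w.foldr (fun r x => FiHat3510.data.trace x (pal r)) c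

/-- The image of a row under such a product followed, if asked, by the diagram automorphism. -/
noncomputable def ev (e : Bool × List ℕ) (c : ℕ) : ℕ := cond e.1 (piTree.get (evW e.2 c)) (evW e.2 c)

/-- The product of the two transpositions. -/
def zData : Bool × List ℕ := (false, [0, 7])

/-- A row of the standard pair. -/
def isPt (r : ℕ) : Bool := Nat.beq r 0 || Nat.beq r 7

/-- A common neighbour of the two rows. -/
noncomputable def inB (r : ℕ) : Bool := comB 0 r && comB 7 r && !isPt r

/-- The first row of a fibre. -/
def rep (k : ℕ) : ℕ := (fibData.getD k []).headD 0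

/-- A row belongs to a fibre. -/
def inFib (k r : ℕ) : Bool := (fibData.getD k []).contains r

/-- The transvection permutation. -/
def tauFn (k m : ℕ) : ℕ := (tauData.getD k []).getD m 0

/-- Equality of the values of two functions on the rows of the letters. -/
noncomputable def agree (f g : ℕ → ℕ) : Bool := glData.all fun c => Nat.beq (f c) (g c)

/-- The generators of the kernel. -/
def kerData : List (Bool × List ℕ) := uData ++ vData

/-- The two generators of a pair. -/
def uEl (i : ℕ) : Bool × List ℕ := uData.getD i (false, [])

/-- The two generators of a pair. -/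
def vEl (i : ℕ) : Bool × List ℕ := vData.getD i (false, [])

theorem gl_step : ([(0, 1), (1, 2), (2, 3), (3, 4), (3, 7), (4, 5), (5, 6), (7, 8)] : List (ℕ × ℕ)).all
    (fun e => Nat.beq (FiHat3510.data.trace (glData.getD e.1 0) [e.2, e.1]) (glData.getD e.2 0)) = true := by
  decide +kernel

theorem nbr_ok : ((List.range 3510).all fun r =>
    (FiHat3510.mask0.testBit r == (comB 0 r && !Nat.beq r 0))) = true := by decide +kernel

theorem fix_ok : ((List.range 3510).all fun r =>
    !Nat.beq (ev zData r) r || fixData.contains r) = true := by decide +kernel

theorem fix_lt : fixData.all (fun r => Nat.blt r 3510) = true := by decide +kernel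

/-- One row of the uniqueness check. -/
noncomputable def uniqRow (r : ℕ) : Bool :=
  fixData.all fun s => !agree (ev (false, [r, s])) (ev zData) || (isPt r && isPt s && !Nat.beq r s)

theorem uniq_ok0 : ((fixData.drop 0).take 23).all uniqRow = true := by decide +kernel

theorem uniq_ok1 : ((fixData.drop 23).take 23).all uniqRow = true := by decide +kernel

theorem uniq_ok2 : ((fixData.drop 46).take 23).all uniqRow = true := by decide +kernel

theorem uniq_ok3 : ((fixData.drop 69).take 23).all uniqRow = true := by decide +kernel

theorem uniq_ok4 : ((fixData.drop 92).take 23).all uniqRow = true := by decide +kernel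

theorem uniq_ok5 : ((fixData.drop 115).take 23).all uniqRow = true := by decide +kernel

theorem uniq_ok6 : ((fixData.drop 138).take 23).all uniqRow = true := by decide +kernel

theorem uniq_ok7 : ((fixData.drop 161).take 23).all uniqRow = true := by decide +kernel

theorem uniq_ok : (fixData.all fun r => fixData.all fun s =>
    !agree (ev (false, [r, s])) (ev zData) || (isPt r && isPt s && !Nat.beq r s)) = true := by
  have hsplit : ∀ (n m : ℕ) (L : List ℕ), ((L.drop m).take n).all uniqRow = true →
      (L.drop (m + n)).all uniqRow = true → (L.drop m).all uniqRow = true := fun n m L h0 h1 => by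
    rw [← List.take_append_drop n (L.drop m), List.all_append, h0, List.drop_drop, h1]
    rfl
  have hlast : (fixData.drop 184).all uniqRow = true := by decide +kernel
  exact hsplit 23 0 _ uniq_ok0 (hsplit 23 23 _ uniq_ok1 (hsplit 23 46 _ uniq_ok2 (hsplit 23 69 _ uniq_ok3 (hsplit 23 92 _ uniq_ok4 (hsplit 23 115 _ uniq_ok5 (hsplit 23 138 _ uniq_ok6 (hsplit 23 161 _ uniq_ok7 hlast)))))))

/-- One row of the fibre check. -/
noncomputable def inBRow (r : ℕ) : Bool := inB r == (List.range 45).any fun k => inFib k r

theorem inB_ok0 : ((List.range 3510).take 1170).all inBRow = true := by decide +kernel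

theorem inB_ok1 : (((List.range 3510).drop 1170).take 1170).all inBRow = true := by decide +kernel

theorem inB_ok2 : (((List.range 3510).drop 1170).drop 1170).all inBRow = true := by decide +kernel

theorem inB_ok : ((List.range 3510).all fun r =>
    (inB r == (List.range 45).any fun k => inFib k r)) = true := by
  have hsplit : ∀ L : List ℕ, (L.take 1170).all inBRow = true → ((L.drop 1170).take 1170).all inBRow = true →
      ((L.drop 1170).drop 1170).all inBRow = true → L.all inBRow = true := fun L h0 h1 h2 => by
    rw [← List.take_append_drop 1170 L, List.all_append, h0, ← List.take_append_drop 1170 (L.drop 1170),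
      List.all_append, h1, h2]
    rfl
  exact hsplit _ inB_ok0 inB_ok1 inB_ok2

theorem fib_lt : (List.range 45).all (fun k => Nat.blt (rep k) 3510 && inFib k (rep k) &&
    (fibData.getD k []).all fun r => Nat.blt r 3510) = true := by decide +kernel

theorem fib_com : ((List.range 45).all fun k => (fibData.getD k []).all fun r => (List.range 45).all fun m =>
    (fibData.getD m []).all fun s => comB r s == comB (rep k) (rep m)) = true := by decide +kernel

theorem fib_sep : ((List.range 45).all fun k => (List.range 45).all fun l => Nat.beq k l ||
    (List.range 45).any fun m => !(comB (rep k) (rep m) == comB (rep l) (rep m))) = true := by decide +kernel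

theorem tau_ok : ((List.range 45).all fun k => (fibData.getD k []).all fun r => (List.range 45).all fun m =>
    Nat.blt (tauFn k m) 45 && inFib (tauFn k m) (ev (false, [r]) (rep m))) = true := by decide +kernel

theorem tau_sep : ((List.range 45).all fun k => (List.range 45).all fun l => Nat.beq k l ||
    (List.range 45).any fun m => !Nat.beq (tauFn k m) (tauFn l m)) = true := by decide +kernel

theorem ker_ok : (kerData.all fun e => e.2.all (fun r => Nat.blt r 3510) && isPt (ev e 0) && isPt (ev e 7) &&
    (List.range 45).all fun k => inFib k (ev e (rep k))) = true := by decide +kernel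

theorem sq_ok : (kerData.all fun e => agree (fun c => ev e (ev e c)) id) = true := by decide +kernel

theorem rel_ok : ((List.range 5).all fun i => (List.range 5).all fun k =>
    agree (fun c => ev (uEl i) (ev (uEl k) c)) (fun c => ev (uEl k) (ev (uEl i) c)) &&
      agree (fun c => ev (vEl i) (ev (vEl k) c)) (fun c => ev (vEl k) (ev (vEl i) c)) &&
        agree (fun c => ev (uEl i) (ev (vEl k) c))
          (fun c => cond (Nat.beq i k) (ev zData (ev (vEl k) (ev (uEl i) c))) (ev (vEl k) (ev (uEl i) c)))) = true := by
  decide +kernel

theorem z_ok : agree (fun c => ev zData (ev zData c)) id = true ∧ agree (ev zData) id = false ∧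
    isPt (ev zData 0) = true ∧ isPt (ev zData 7) = true := by decide +kernel

theorem odd_ok : (oddData.2.all (fun r => Nat.blt r 3510) && isPt (ev oddData 0) && isPt (ev oddData 7) &&
    (List.range 45).all fun k => Nat.blt (oddPerm.getD k 0) 45 && inFib (oddPerm.getD k 0) (ev oddData (rep k))) =
      true := by decide +kernel

/-- The first transvection does not act trivially on the kernel. -/
theorem wit_ok : agree (fun c => ev (false, [rep 0]) (ev (vEl 0) c)) (fun c => ev (vEl 0) (ev (false, [rep 0]) c)) = false ∧
    agree (fun c => ev (false, [rep 0]) (ev (vEl 0) c))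
      (fun c => ev zData (ev (vEl 0) (ev (false, [rep 0]) c))) = false := by decide +kernel

end CfsgLib.Recog.SporBound.Fi22Pair
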