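import Cfsg.Agent.Lib.Recog.SporBound.Fi22Pair.Data
import Cfsg.Agent.Lib.Recog.SporBound.Fi22U6.FieldFour
import Cfsg.Agent.Lib.Known.AutPSU.Out
import Cfsg.Agent.Lib.Classical.SmallOrtho.UFourTwo
import Cfsg.Agent.Lib.Classical.Unitary.MatrixStructure
import Cfsg.Agent.Lib.Classical.Unitary.Two

set_option autoImplicit false
set_option maxRecDepth 20000

/-!
PSU(4, 2) as the group generated by the transvection permutations of the 45 isotropic points, and the order of
its automorphism group (owner: helper24).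
-/

namespace CfsgLib.Recog.SporBound.Fi22Pair

open Cfsg CfsgLib.Classical.Herm
open CfsgLib.Recog.SporBound.Fi22U6 (F4)
open scoped Matrix

/-- The special unitary group. -/
abbrev SU4 : Type := ↥(Cfsg.SU 4 F4 2)

/-- The matrix. -/
def mat4 (M : SU4) : Matrix (Fin 4) (Fin 4) F4 :=
  ((M : Matrix.SpecialLinearGroup (Fin 4) F4) : Matrix (Fin 4) (Fin 4) F4)

theorem mat4_mul (M N : SU4) : mat4 (M * N) = mat4 M * mat4 N := rfl

theorem mat4_one : mat4 1 = 1 := rfl

theorem form4 (N : SU4) (x y : Fin 4 → F4) :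
    Cfsg.hermForm 4 F4 2 (mat4 N *ᵥ x) (mat4 N *ᵥ y) = Cfsg.hermForm 4 F4 2 x y := N.2 x y

theorem eq_of_mulVec4 {M N : SU4} (h : ∀ x, mat4 M *ᵥ x = mat4 N *ᵥ x) : M = N := by
  refine Subtype.ext (Subtype.ext ?_)
  ext i j
  have := congrFun (h (Pi.single j 1)) i
  simpa [Matrix.mulVec_single, mat4] using this

theorem one_skew4 : (1 : F4) + powHom F4.card 1 = 0 := by
  rw [map_one]; decide

/-- The transvection at an isotropic vector. -/
noncomputable def tv (v : Fin 4 → F4) : SU4 :=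
  if h : hermStd 4 F4.card v v = 0 then
    (suEquiv 4 F4.card).symm ⟨(hermStd_isHerm F4.card).tr h one_skew4, (hermStd_isHerm F4.card).det_tr h one_skew4⟩
  else 1

theorem tv_apply {v : Fin 4 → F4} (hv : Cfsg.hermForm 4 F4 2 v v = 0) (x : Fin 4 → F4) :
    mat4 (tv v) *ᵥ x = x + Cfsg.hermForm 4 F4 2 x v • v := by
  have h : hermStd 4 F4.card v v = 0 := by rw [hermStd_apply]; exact hv
  rw [tv, dif_pos h, mat4, suEquiv_symm_tr, unitaryTransvection_mulVec F4.card, one_mul, hermStd_apply]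

theorem form_smul_right (l : F4) (x y : Fin 4 → F4) :
    Cfsg.hermForm 4 F4 2 x (l • y) = l ^ 2 * Cfsg.hermForm 4 F4 2 x y := by
  simp only [Cfsg.hermForm, Pi.smul_apply, smul_eq_mul, Finset.mul_sum, mul_pow]
  exact Finset.sum_congr rfl fun i _ => by ring

theorem form_smul_left (l : F4) (x y : Fin 4 → F4) :
    Cfsg.hermForm 4 F4 2 (l • x) y = l * Cfsg.hermForm 4 F4 2 x y := by
  simp only [Cfsg.hermForm, Pi.smul_apply, smul_eq_mul, Finset.mul_sum]
  exact Finset.sum_congr rfl fun i _ => by ring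

theorem tv_smul {v : Fin 4 → F4} (hv : Cfsg.hermForm 4 F4 2 v v = 0) {l : F4} (hl : l ≠ 0) :
    tv (l • v) = tv v := by
  have key : ∀ l : F4, l ≠ 0 → l ^ 2 * l = 1 := by decide +kernel
  refine eq_of_mulVec4 fun x => ?_
  rw [tv_apply hv, tv_apply (by rw [form_smul_right, form_smul_left, hv, mul_zero, mul_zero]), form_smul_right,
    smul_smul]
  congr 2
  rw [mul_right_comm, key l hl, one_mul]

theorem closure_tv : Subgroup.closure {T : SU4 | ∃ v, Cfsg.hermForm 4 F4 2 v v = 0 ∧ v ≠ 0 ∧ T = tv v} = ⊤ := by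
  rw [eq_top_iff, ← su_closure_transvections F4.card 4 (by norm_num) (by norm_num), Subgroup.closure_le]
  rintro A ⟨v, c, hv, hA⟩
  have hmul : ∀ x, mat4 A *ᵥ x = x + (c * Cfsg.hermForm 4 F4 2 x v) • v := fun x => by
    rw [mat4, hA, unitaryTransvection_mulVec F4.card, hermStd_apply]
  by_cases hv0 : v = 0
  · rw [show A = 1 from eq_of_mulVec4 fun x => by
      rw [hmul, hv0, smul_zero, add_zero, mat4_one, Matrix.one_mulVec]]
    exact one_mem _
  obtain ⟨i, hi⟩ : ∃ i, v i ≠ 0 := Function.ne_iff.1 hv0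
  set f : Fin 4 → F4 := Pi.single i (v i)
  have cube : ∀ x : F4, x ≠ 0 → x * x ^ 2 = 1 := by decide +kernel
  have hfv : Cfsg.hermForm 4 F4 2 f v = 1 := by
    rw [Cfsg.hermForm, Finset.sum_eq_single i]
    · simp [f, cube _ hi]
    · intro j _ hj; simp [f, Pi.single_eq_of_ne hj]
    · simp
  have hvf : Cfsg.hermForm 4 F4 2 v f = 1 := by
    rw [Cfsg.hermForm, Finset.sum_eq_single i]
    · simp [f, cube _ hi]
    · intro j _ hj; simp [f, Pi.single_eq_of_ne hj]
    · simp
  have add_sq : ∀ x y : F4, (x + y) ^ 2 = x ^ 2 + y ^ 2 := by decide +kernel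
  have hexp : ∀ (x y : Fin 4 → F4) (s : F4), Cfsg.hermForm 4 F4 2 (x + s • y) (x + s • y) =
      Cfsg.hermForm 4 F4 2 x x + s ^ 2 * Cfsg.hermForm 4 F4 2 x y + s * Cfsg.hermForm 4 F4 2 y x +
        s * s ^ 2 * Cfsg.hermForm 4 F4 2 y y := fun x y s => by
    simp only [Cfsg.hermForm, Finset.mul_sum, ← Finset.sum_add_distrib]
    refine Finset.sum_congr rfl fun j _ => ?_
    simp only [Pi.add_apply, Pi.smul_apply, smul_eq_mul, add_sq, mul_pow]
    ring
  have hc := form4 A f f
  rw [hmul, hfv, mul_one, hexp, hfv, hvf, hv, mul_one, mul_one, mul_zero, add_zero] at hc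
  have hc' : c = 0 ∨ c = 1 := by
    have key : ∀ b x : F4, b + x ^ 2 + x = b → x = 0 ∨ x = 1 := by decide +kernel
    exact key _ _ hc
  rcases hc' with rfl | rfl
  · rw [show A = 1 from eq_of_mulVec4 fun x => by
      rw [hmul, zero_mul, zero_smul, add_zero, mat4_one, Matrix.one_mulVec]]
    exact one_mem _
  · exact Subgroup.subset_closure ⟨v, hv, hv0, eq_of_mulVec4 fun x => by rw [hmul, one_mul, tv_apply hv]⟩

/-- The vector of a code. -/
def ofCode (c : ℕ) : Fin 4 → F4 :=
  ![F4.ofNat4 (c % 4), F4.ofNat4 (c / 4 % 4), F4.ofNat4 (c / 16 % 4), F4.ofNat4 (c / 64 % 4)]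

/-- The isotropic points. -/
def pt (k : Fin 45) : Fin 4 → F4 := ofCode (ptData.getD k 0)

/-- The hermitian form, computably. -/
def herm4 (x y : Fin 4 → F4) : F4 :=
  x 0 * (y 0 * y 0) + x 1 * (y 1 * y 1) + x 2 * (y 2 * y 2) + x 3 * (y 3 * y 3)

theorem herm4_eq (x y : Fin 4 → F4) : Cfsg.hermForm 4 F4 2 x y = herm4 x y := by
  simp [Cfsg.hermForm, herm4, Fin.sum_univ_four, pow_two]

/-- The transvection permutation. -/
def tauF (k m : Fin 45) : Fin 45 := ⟨(tauData.getD k []).getD m 0 % 45, Nat.mod_lt _ (by norm_num)⟩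

/-- Equality of two vectors, coordinate by coordinate. -/
def veq (x y : Fin 4 → F4) : Bool := x 0 == y 0 && (x 1 == y 1 && (x 2 == y 2 && x 3 == y 3))

theorem veq_iff {x y : Fin 4 → F4} : veq x y = true ↔ x = y := by
  simp only [veq, Bool.and_eq_true, beq_iff_eq]
  refine ⟨fun h => ?_, fun h => by simp [h]⟩
  funext i
  fin_cases i
  exacts [h.1, h.2.1, h.2.2.1, h.2.2.2]

/-- Scaling, computably. -/
def sc (l : F4) (x : Fin 4 → F4) : Fin 4 → F4 := fun i => l * x i

theorem pt_ok : ((List.finRange 45).all fun k => decide (herm4 (pt k) (pt k) = 0) && !veq (pt k) (fun _ => 0)) =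
    true := by decide +kernel

theorem cover4_ok : ((List.range 256).all fun c => veq (ofCode c) (fun _ => 0) ||
    !decide (herm4 (ofCode c) (ofCode c) = 0) || (List.finRange 45).any fun k =>
      [F4.one, F4.om, F4.om'].any fun l => veq (ofCode c) (sc l (pt k))) = true := by decide +kernel

theorem pt_sep : ((List.finRange 45).all fun k => (List.finRange 45).all fun m => decide (k = m) ||
    [F4.one, F4.om, F4.om'].all fun l => !veq (pt m) (sc l (pt k))) = true := by decide +kernel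

theorem tau4_ok : ((List.finRange 45).all fun k => (List.finRange 45).all fun m =>
    [F4.one, F4.om, F4.om'].any fun l =>
      veq (fun i => pt m i + herm4 (pt m) (pt k) * pt k i) (sc l (pt (tauF k m)))) = true := by decide +kernel

theorem pt_iso (k : Fin 45) : Cfsg.hermForm 4 F4 2 (pt k) (pt k) = 0 := by
  have h := List.all_eq_true.1 pt_ok k (List.mem_finRange k)
  rw [Bool.and_eq_true, decide_eq_true_eq] at h
  rw [herm4_eq]; exact h.1

theorem pt_ne (k : Fin 45) : pt k ≠ 0 := fun e => by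
  have h := List.all_eq_true.1 pt_ok k (List.mem_finRange k)
  rw [Bool.and_eq_true, veq_iff.2 (show pt k = fun _ => 0 from e)] at h
  simp at h

theorem cover4 {v : Fin 4 → F4} (hv : v ≠ 0) (hi : Cfsg.hermForm 4 F4 2 v v = 0) :
    ∃ (k : Fin 45) (l : F4), l ≠ 0 ∧ v = l • pt k := by
  have hn : ∀ x : F4, F4.num x < 4 ∧ F4.ofNat4 (F4.num x) = x := by decide
  set c := F4.num (v 0) + 4 * F4.num (v 1) + 16 * F4.num (v 2) + 64 * F4.num (v 3) with hc
  have h0 := (hn (v 0)).1; have h1 := (hn (v 1)).1; have h2 := (hn (v 2)).1; have h3 := (hn (v 3)).1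
  have hv' : v = ofCode c := by
    funext i
    rw [ofCode, show c % 4 = F4.num (v 0) by omega, show c / 4 % 4 = F4.num (v 1) by omega,
      show c / 16 % 4 = F4.num (v 2) by omega, show c / 64 % 4 = F4.num (v 3) by omega,
      (hn (v 0)).2, (hn (v 1)).2, (hn (v 2)).2, (hn (v 3)).2]
    fin_cases i <;> rfl
  have h := List.all_eq_true.1 cover4_ok c (List.mem_range.2 (by omega))
  rw [Bool.or_eq_true, Bool.or_eq_true, veq_iff, List.any_eq_true] at h
  rcases h with (h | h) | ⟨k, -, h⟩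
  · exact absurd (hv'.trans h) hv
  · rw [← hv', ← herm4_eq, hi] at h
    simp at h
  · obtain ⟨l, hl, e⟩ := List.any_eq_true.1 h
    refine ⟨k, l, ?_, ?_⟩
    · simp only [List.mem_cons, List.not_mem_nil, or_false] at hl
      rcases hl with rfl | rfl | rfl <;> decide
    · rw [hv', veq_iff.1 e]; rfl

theorem pt_unique {k m : Fin 45} {l : F4} (h : pt m = l • pt k) : k = m := by
  have h1 := List.all_eq_true.1 (List.all_eq_true.1 pt_sep k (List.mem_finRange k)) m (List.mem_finRange m)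
  rw [Bool.or_eq_true, decide_eq_true_eq] at h1
  refine h1.resolve_right fun h2 => ?_
  rcases (by decide +kernel : ∀ x : F4, x = 0 ∨ x ∈ [F4.one, F4.om, F4.om']) l with hl | hl
  · exact pt_ne m (by rw [h, hl, zero_smul])
  · have h3 := List.all_eq_true.1 h2 l hl
    rw [veq_iff.2 (show pt m = sc l (pt k) from h)] at h3
    simp at h3

theorem exists_point (M : SU4) (k : Fin 45) : ∃ (m : Fin 45) (l : F4), l ≠ 0 ∧ mat4 M *ᵥ pt k = l • pt m := by
  refine cover4 (fun e => pt_ne k ?_) (by rw [form4]; exact pt_iso k)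
  have := congrArg (fun x => mat4 M⁻¹ *ᵥ x) e
  simpa [Matrix.mulVec_mulVec, ← mat4_mul, mat4_one] using this

/-- The image of a point. -/
noncomputable def pimg (M : SU4) (k : Fin 45) : Fin 45 := (exists_point M k).choose

theorem pimg_eq {M : SU4} {k m : Fin 45} {l : F4} (hl : l ≠ 0) (h : mat4 M *ᵥ pt k = l • pt m) :
    pimg M k = m := by
  obtain ⟨l', hl', h'⟩ := (exists_point M k).choose_spec
  refine pt_unique (l := l'⁻¹ * l) ?_ |>.symm
  rw [← smul_smul, ← h, h', smul_smul, inv_mul_cancel₀ hl', one_smul]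
  rfl

theorem pimg_mul (M N : SU4) (k : Fin 45) : pimg (M * N) k = pimg M (pimg N k) := by
  obtain ⟨l, hl, h⟩ := (exists_point N k).choose_spec
  obtain ⟨l', hl', h'⟩ := (exists_point M (pimg N k)).choose_spec
  refine pimg_eq (mul_ne_zero hl hl') ?_
  rw [mat4_mul, ← Matrix.mulVec_mulVec, h]
  show mat4 M *ᵥ (l • pt (pimg N k)) = _
  rw [Matrix.mulVec_smul, h', smul_smul]
  rfl

theorem pimg_one (k : Fin 45) : pimg 1 k = k :=
  pimg_eq one_ne_zero (by rw [mat4_one, Matrix.one_mulVec, one_smul])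

/-- The action on the points. -/
noncomputable def phi : SU4 →* Equiv.Perm (Fin 45) where
  toFun M :=
    { toFun := pimg M
      invFun := pimg M⁻¹
      left_inv := fun k => by rw [← pimg_mul, inv_mul_cancel, pimg_one]
      right_inv := fun k => by rw [← pimg_mul, mul_inv_cancel, pimg_one] }
  map_one' := Equiv.ext pimg_one
  map_mul' M N := Equiv.ext fun k => pimg_mul M N k

theorem phi_tv (k m : Fin 45) : phi (tv (pt k)) m = tauF k m := by
  have h := List.all_eq_true.1 (List.all_eq_true.1 tau4_ok k (List.mem_finRange k)) m (List.mem_finRange m)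
  obtain ⟨l, hl, e⟩ := List.any_eq_true.1 h
  refine pimg_eq (l := l) ?_ ?_
  · simp only [List.mem_cons, List.not_mem_nil, or_false] at hl
    rcases hl with rfl | rfl | rfl <;> decide
  · rw [tv_apply (pt_iso k), herm4_eq]
    exact veq_iff.1 e

theorem tv_conj (N : SU4) {v : Fin 4 → F4} (hv : Cfsg.hermForm 4 F4 2 v v = 0) :
    N * tv v * N⁻¹ = tv (mat4 N *ᵥ v) := by
  refine eq_of_mulVec4 fun z => ?_
  rw [tv_apply (by rw [form4]; exact hv), mat4_mul, mat4_mul, ← Matrix.mulVec_mulVec, ← Matrix.mulVec_mulVec,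
    tv_apply hv, Matrix.mulVec_add, Matrix.mulVec_smul, Matrix.mulVec_mulVec, ← mat4_mul, mul_inv_cancel,
    mat4_one, Matrix.one_mulVec]
  congr 2
  rw [← form4 N, Matrix.mulVec_mulVec, ← mat4_mul, mul_inv_cancel, mat4_one, Matrix.one_mulVec]

theorem center_su4 : Subgroup.center SU4 = ⊥ := by
  refine (Subgroup.eq_bot_iff_forall _).2 fun z hz => ?_
  obtain ⟨c, hc⟩ := CfsgLib.Known.AutPSU.scalar_of_mem_center F4.card (by norm_num) z hz
  have hd : ((z : Matrix.SpecialLinearGroup (Fin 4) F4) : Matrix (Fin 4) (Fin 4) F4).det = 1 :=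
    (z : Matrix.SpecialLinearGroup (Fin 4) F4).det_coe
  rw [hc, Matrix.det_smul, Matrix.det_one, mul_one, Fintype.card_fin] at hd
  have key : ∀ x : F4, x ^ 4 = 1 → x = 1 := by decide +kernel
  refine Subtype.ext (Subtype.ext ?_)
  rw [hc, key _ hd, one_smul]
  rfl

theorem phi_injective : Function.Injective phi := by
  rw [← MonoidHom.ker_eq_bot_iff, eq_bot_iff, ← center_su4]
  intro N hN
  rw [← Subgroup.centralizer_univ, ← Subgroup.coe_top, ← closure_tv, Subgroup.centralizer_closure]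
  intro T hT
  obtain ⟨v, hv, hv0, rfl⟩ := hT
  obtain ⟨k, l, hl, rfl⟩ := cover4 hv0 hv
  obtain ⟨l', hl', e⟩ := (exists_point N k).choose_spec
  have e0 : pimg N k = k := by rw [show pimg N k = phi N k from rfl, MonoidHom.mem_ker.1 hN]; rfl
  change mat4 N *ᵥ pt k = l' • pt (pimg N k) at e
  rw [e0] at e
  have e2 : N * tv (l • pt k) * N⁻¹ = tv (l • pt k) := by
    rw [tv_smul (pt_iso k) hl, tv_conj N (pt_iso k), e, tv_smul (pt_iso k) hl']
  calc tv (l • pt k) * N = N * tv (l • pt k) * N⁻¹ * N := by rw [e2]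
    _ = N * tv (l • pt k) := by rw [inv_mul_cancel_right]

/-- The group generated by the transvection permutations. -/
noncomputable def N45 : Subgroup (Equiv.Perm (Fin 45)) :=
  Subgroup.closure (Set.range fun k => phi (tv (pt k)))

theorem range_phi : phi.range = N45 := by
  refine le_antisymm ?_ ((Subgroup.closure_le _).2 fun _ ⟨k, e⟩ => e ▸ ⟨_, rfl⟩)
  rw [MonoidHom.range_eq_map, ← closure_tv, MonoidHom.map_closure, Subgroup.closure_le]
  rintro _ ⟨_, ⟨v, hv, hv0, rfl⟩, rfl⟩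
  obtain ⟨k, l, hl, rfl⟩ := cover4 hv0 hv
  rw [tv_smul (pt_iso k) hl]
  exact Subgroup.subset_closure ⟨k, rfl⟩

/-- The group of permutations is PSU(4, 2). -/
theorem n45_equiv {F : Type} [Field F] [Fintype F] (hF : Fintype.card F = 4) :
    Nonempty (N45 ≃* Cfsg.PSU 4 F 2) := by
  let r : F4 ≃+* F := FiniteField.ringEquivOfCardEq (by rw [hF, F4.card]; rfl)
  let e1 : N45 ≃* SU4 := ((MonoidHom.ofInjective phi_injective).trans (MulEquiv.subgroupCongr range_phi)).symm
  let e2 : SU4 ≃* Cfsg.PSU 4 F4 2 :=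
    (QuotientGroup.quotientBot (G := SU4)).symm.trans
      (QuotientGroup.quotientMulEquivOfEq center_su4.symm)
  exact ⟨(e1.trans e2).trans (QuotientGroup.congr _ _ (CfsgLib.Classical.UFourTwo.suMap r)
    (CfsgLib.Classical.Herm.map_center_of_equiv (CfsgLib.Classical.UFourTwo.suMap r)))⟩

theorem card_n45 : Nat.card N45 = 25920 := by
  rw [← range_phi, ← Nat.card_congr (MonoidHom.ofInjective phi_injective).toEquiv]
  have h := card_SU (q := 2) F4.card 4 (by norm_num)
  norm_num [Finset.prod_range_succ, Nat.even_iff] at h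
  show Nat.card (Cfsg.SU 4 F4 2) = 25920
  omega

theorem n45_simple : IsSimpleGroup N45 := by
  obtain ⟨e⟩ := n45_equiv (F := F4) F4.card
  haveI : IsSimpleGroup (Cfsg.PSU 4 F4 2) :=
    CfsgLib.Classical.Herm.isSimpleGroup_PSU' F4.card 4 (by norm_num) (by norm_num)
  haveI : Nontrivial N45 := e.toEquiv.nontrivial
  exact IsSimpleGroup.isSimpleGroup_of_surjective e.symm.toMonoidHom e.symm.surjective

theorem card_aut_psu {F : Type} [Field F] [Fintype F] (hF : Fintype.card F = 4) :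
    Nat.card (MulAut (Cfsg.PSU 4 F 2)) ≤ 51840 := by
  have hF' : Fintype.card F = 2 ^ 2 := hF
  haveI : Fact (Nat.Prime 2) := ⟨Nat.prime_two⟩
  obtain ⟨φ, hφ, -, hker⟩ := CfsgLib.Known.AutPSU.exists_out (n := 4) hF' (by norm_num) (by norm_num)
    (p := 2) (f := 1) le_rfl rfl
  have hout : Nat.card (Cfsg.Out (Cfsg.PSU 4 F 2)) = 2 := by
    rw [← φ.ker.card_mul_index, Subgroup.index_ker, MonoidHom.range_eq_top.2 hφ, Subgroup.card_top, hker,
      Nat.card_congr Multiplicative.toAdd, Nat.card_zmod]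
    rfl
  obtain ⟨e⟩ := n45_equiv hF
  have : Finite (Cfsg.PSU 4 F 2) := Finite.of_equiv _ e.toEquiv
  have h2 := (Cfsg.Inn (Cfsg.PSU 4 F 2)).index_mul_card
  rw [show (Cfsg.Inn (Cfsg.PSU 4 F 2)).index = Nat.card (Cfsg.Out (Cfsg.PSU 4 F 2)) from
    Subgroup.index_eq_card _, hout] at h2
  have hle : Nat.card (Cfsg.Inn (Cfsg.PSU 4 F 2)) ≤ 25920 := by
    rw [← card_n45, Nat.card_congr e.toEquiv]
    exact Nat.card_le_card_of_surjective
      (fun g : Cfsg.PSU 4 F 2 => (⟨MulAut.conj g, g, rfl⟩ : Cfsg.Inn (Cfsg.PSU 4 F 2)))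
      fun ⟨_, g, hg⟩ => ⟨g, Subtype.ext hg⟩
  omega

end CfsgLib.Recog.SporBound.Fi22Pair
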