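import Cfsg.Agent.Lib.Recog.SporBound.Fi22Pair.Stab
import Cfsg.Agent.Lib.Recog.SporBound.Fi22Pair.Unitary
import Cfsg.Agent.Lib.Recog.SporBound.Fi22Pair.Pairs
import Mathlib.GroupTheory.Perm.Sign

set_option autoImplicit false
set_option maxRecDepth 20000

/-!
The action on the 45 fibres: the kernel is generated by five pairs of involutions, the image is the extension of
PSU(4, 2) by an odd permutation (owner: helper24).
-/

namespace CfsgLib.Recog.SporBound.Fi22Pair

open Cfsg CfsgLib.ThreeTrans.CosetIndex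
open CfsgLib.Recog.SporBound.Fi22Group (act)
open CfsgLib.Recog.SporBound.Fi22U6 (origin base)
open CfsgLib.Recog.SporBound.Fi22Aut
open scoped commutatorElement

theorem fits_of_all {e : Bool × List ℕ} (h : e.2.all (fun r => Nat.blt r 3510) = true) : Frame.Fits e :=
  fun r hr => by simpa using List.all_eq_true.1 h r hr

theorem uEl_mem {i : ℕ} (hi : i < 5) : uEl i ∈ kerData ∧ vEl i ∈ kerData := by
  have h : uData.length = 5 ∧ vData.length = 5 := ⟨rfl, rfl⟩
  rw [uEl, vEl, List.getD_eq_getElem _ _ (by omega), List.getD_eq_getElem _ _ (by omega)]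
  exact ⟨List.mem_append_left _ (List.getElem_mem _), List.mem_append_right _ (List.getElem_mem _)⟩

theorem ker_spec {e : Bool × List ℕ} (he : e ∈ kerData) :
    Frame.Fits e ∧ isPt (ev e 0) = true ∧ isPt (ev e 7) = true ∧ ∀ k : Fin 45, inFib k (ev e (rep k)) = true := by
  have h := List.all_eq_true.1 ker_ok e he
  simp only [Bool.and_eq_true] at h
  exact ⟨fits_of_all h.1.1.1, h.1.1.2, h.1.2, fun k => List.all_eq_true.1 h.2 k (List.mem_range.2 k.2)⟩

/-- The swaps on the fibres. -/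
def swapPerm : List (ℕ × ℕ) → Equiv.Perm (Fin 45)
  | [] => 1
  | e :: l => Equiv.swap (Fin.ofNat 45 e.1) (Fin.ofNat 45 e.2) * swapPerm l

theorem sign_swapPerm : ∀ l : List (ℕ × ℕ), (∀ e ∈ l, (Fin.ofNat 45 e.1) ≠ Fin.ofNat 45 e.2) →
    Equiv.Perm.sign (swapPerm l) = (-1) ^ l.length
  | [], _ => by rw [swapPerm, map_one]; rfl
  | e :: l, h => by
    rw [swapPerm, map_mul, Equiv.Perm.sign_swap (h e List.mem_cons_self),
      sign_swapPerm l fun x hx => h x (List.mem_cons_of_mem _ hx), List.length_cons, pow_succ', neg_one_mul]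

theorem swap_ok : ((List.finRange 45).all fun k => decide (((swapPerm oddSwaps k : Fin 45) : ℕ) = oddPerm.getD k 0)) =
    true ∧ oddSwaps.all (fun e => decide ((Fin.ofNat 45 e.1) ≠ Fin.ofNat 45 e.2)) = true ∧
    oddSwaps.length = 31 := by
  refine ⟨?_, ?_, ?_⟩ <;> decide +kernel

namespace Frame

variable {A : Type*} [Group A] (F : Frame A)

/-- The first of a pair. -/
noncomputable def uA (i : ℕ) : A := F.el (uEl i)

/-- The second of a pair. -/
noncomputable def vA (i : ℕ) : A := F.el (vEl i)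

theorem ker_mem {e : Bool × List ℕ} (he : e ∈ kerData) : F.el e ∈ F.psi.ker.map F.C.subtype := by
  obtain ⟨hf, h0, h7, hk⟩ := ker_spec he
  refine ⟨⟨F.el e, F.el_mem_C hf h0 h7⟩, ?_, rfl⟩
  refine MonoidHom.mem_ker.2 (Equiv.ext fun k => F.psi_eq _ (repR_mem k) ?_)
  show inFib k ((F.θ (F.el e) (repR k) : Row) : ℕ) = true
  rw [F.el_spec hf]
  exact hk k

theorem sq_of {e : Bool × List ℕ} (he : e ∈ kerData) : F.el e * F.el e = 1 :=
  F.eq_of_agree (F.mul_spec (F.el_spec (ker_spec he).1) (F.el_spec (ker_spec he).1)) F.one_spec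
    (List.all_eq_true.1 sq_ok e he)

theorem jz_sq : F.jz * F.jz = 1 := F.eq_of_agree (F.mul_spec F.jz_spec F.jz_spec) F.one_spec z_ok.1

theorem jz_ne : F.jz ≠ 1 := fun e => by
  have h := F.agree_of_eq F.jz_spec F.one_spec e
  rw [z_ok.2.1] at h
  exact Bool.false_ne_true h

theorem pairs : Pairs F.jz F.uA F.vA 5 := by
  have hmem : ∀ i < 5, F.uA i ∈ F.C ∧ F.vA i ∈ F.C := fun i hi => by
    obtain ⟨hu, hv⟩ := uEl_mem hi
    obtain ⟨f1, p1, q1, -⟩ := ker_spec hu
    obtain ⟨f2, p2, q2, -⟩ := ker_spec hv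
    exact ⟨F.el_mem_C f1 p1 q1, F.el_mem_C f2 p2 q2⟩
  have hU : ∀ i < 5, ∀ c : Row, ((F.θ (F.uA i) c : Row) : ℕ) = ev (uEl i) c := fun i hi =>
    F.el_spec (ker_spec (uEl_mem hi).1).1
  have hV : ∀ i < 5, ∀ c : Row, ((F.θ (F.vA i) c : Row) : ℕ) = ev (vEl i) c := fun i hi =>
    F.el_spec (ker_spec (uEl_mem hi).2).1
  have rel : ∀ i < 5, ∀ k < 5,
      agree (fun c => ev (uEl i) (ev (uEl k) c)) (fun c => ev (uEl k) (ev (uEl i) c)) = true ∧
      agree (fun c => ev (vEl i) (ev (vEl k) c)) (fun c => ev (vEl k) (ev (vEl i) c)) = true ∧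
      agree (fun c => ev (uEl i) (ev (vEl k) c))
          (fun c => cond (Nat.beq i k) (ev zData (ev (vEl k) (ev (uEl i) c))) (ev (vEl k) (ev (uEl i) c))) = true := by
    intro i hi k hk
    have h := List.all_eq_true.1 (List.all_eq_true.1 rel_ok i (List.mem_range.2 hi)) k (List.mem_range.2 hk)
    simp only [Bool.and_eq_true] at h
    exact ⟨h.1.1, h.1.2, h.2⟩
  refine ⟨F.jz_sq, F.jz_ne,
    fun i hi => (show Commute (F.uA i) F.jz from Subgroup.mem_centralizer_singleton_iff.1 (hmem i hi).1).symm,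
    fun i hi => (show Commute (F.vA i) F.jz from Subgroup.mem_centralizer_singleton_iff.1 (hmem i hi).2).symm,
    fun i hi => F.sq_of (uEl_mem hi).1, fun i hi => F.sq_of (uEl_mem hi).2,
    fun i hi k hk => F.eq_of_agree (F.mul_spec (hU i hi) (hU k hk)) (F.mul_spec (hU k hk) (hU i hi)) (rel i hi k hk).1,
    fun i hi k hk => F.eq_of_agree (F.mul_spec (hV i hi) (hV k hk)) (F.mul_spec (hV k hk) (hV i hi)) (rel i hi k hk).2.1,
    fun i hi k hk hne => ?_, fun i hi => ?_⟩
  · have h := (rel i hi k hk).2.2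
    simp only [show Nat.beq i k = false from Bool.eq_false_iff.2 fun e => hne (Nat.eq_of_beq_eq_true e),
      cond_false] at h
    exact F.eq_of_agree (F.mul_spec (hU i hi) (hV k hk)) (F.mul_spec (hV k hk) (hU i hi)) h
  · have h := (rel i hi i hi).2.2
    simp only [show Nat.beq i i = true from Nat.beq_refl i, cond_true] at h
    refine F.eq_of_agree (f := fun c => ev (uEl i) (ev (vEl i) c))
      (g := fun c => ev zData (ev (vEl i) (ev (uEl i) c))) (F.mul_spec (hU i hi) (hV i hi)) (fun c => ?_) h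
    have e1 := F.mul_spec (f := ev (vEl i)) (g := ev (uEl i)) (hV i hi) (hU i hi)
    exact F.mul_spec (f := ev zData) (g := fun c => ev (vEl i) (ev (uEl i) c)) F.jz_spec e1 c

/-- The kernel. -/
noncomputable def Qs : Subgroup A := F.psi.ker.map F.C.subtype

theorem jz_ker : F.jz ∈ F.Qs := by
  have h : ((List.range 45).all fun k => inFib k (ev zData (rep k))) = true := by decide +kernel
  refine ⟨⟨F.jz, F.jz_mem⟩, MonoidHom.mem_ker.2 (Equiv.ext fun k => F.psi_eq _ (repR_mem k) ?_), rfl⟩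
  show inFib k ((F.θ F.jz (repR k) : Row) : ℕ) = true
  rw [F.jz_spec]
  exact List.all_eq_true.1 h k (List.mem_range.2 k.2)

theorem hull_le_Qs : hull F.jz F.uA F.vA 5 ≤ F.Qs :=
  (hull_le_iff _).2 ⟨F.jz_ker, fun _ hi => ⟨F.ker_mem (uEl_mem hi).1, F.ker_mem (uEl_mem hi).2⟩⟩

/-- The element of a transposition of a common neighbour. -/
noncomputable def gT (r : Row) : A := F.el (false, [(r : ℕ)])

theorem gT_mem {r : Row} (h : inB r = true) : F.gT r ∈ F.C := by
  simp only [inB, Bool.and_eq_true] at h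
  have c0 : com origin r := (comB_iff _ _).1 h.1.1
  have c7 : com base r := (comB_iff _ _).1 h.1.2
  refine (F.mem_C_iff _).2 ⟨?_, ?_⟩
  · rw [gT, F.el_T, show act (T r) origin = origin from com_symm c0]; rfl
  · rw [gT, F.el_T, show act (T r) base = base from com_symm c7]; rfl

theorem psi_gT {l : Fin 45} {r : Row} (hl : InFib l r) :
    F.psi ⟨F.gT r, F.gT_mem ((inB_iff r).2 ⟨l, hl⟩)⟩ = phi (tv (pt l)) := by
  refine Equiv.ext fun m => ?_
  rw [phi_tv]
  refine F.psi_eq _ (repR_mem m) ?_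
  have h := List.all_eq_true.1 (List.all_eq_true.1 (List.all_eq_true.1 tau_ok (l : ℕ) (List.mem_range.2 l.2)) r
    (List.contains_iff_mem.1 hl)) (m : ℕ) (List.mem_range.2 m.2)
  rw [Bool.and_eq_true, Nat.blt_eq] at h
  show inFib (tauF l m) ((F.θ (F.gT r) (repR m) : Row) : ℕ) = true
  rw [gT, F.el_spec (by intro x hx; rw [List.mem_singleton.1 hx]; exact r.2)]
  rw [show ((tauF l m : Fin 45) : ℕ) = tauFn l m from Nat.mod_eq_of_lt h.1]
  exact h.2

/-- The transposition of the first row of a fibre, in the centralizer. -/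
noncomputable def gK (k : Fin 45) : F.C := ⟨F.gT (repR k), F.gT_mem ((inB_iff _).2 ⟨k, repR_mem k⟩)⟩

theorem psi_gK (k : Fin 45) : F.psi (F.gK k) = phi (tv (pt k)) := F.psi_gT (repR_mem k)

theorem psi_conj (α : F.C) (k : Fin 45) :
    F.psi α * phi (tv (pt k)) * (F.psi α)⁻¹ = phi (tv (pt (F.psi α k))) := by
  have hk := F.psi_mem α (repR_mem k)
  rw [← F.psi_gK, ← map_inv, ← map_mul, ← map_mul, ← F.psi_gT hk]
  exact congrArg F.psi (Subtype.ext (F.el_T_conj α (repR k)))

theorem n45_le : N45 ≤ F.psi.range :=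
  (Subgroup.closure_le _).2 fun _ ⟨k, e⟩ => ⟨F.gK k, (F.psi_gK k).trans e⟩

theorem range_normalizes {π x : Equiv.Perm (Fin 45)} (hπ : π ∈ F.psi.range) (hx : x ∈ N45) : π * x * π⁻¹ ∈ N45 := by
  obtain ⟨α, rfl⟩ := hπ
  induction hx using Subgroup.closure_induction with
  | mem y hy =>
    obtain ⟨k, rfl⟩ := hy
    rw [F.psi_conj]
    exact Subgroup.subset_closure ⟨_, rfl⟩
  | one => rw [mul_one, mul_inv_cancel]; exact one_mem _
  | mul a b _ _ ha hb =>
    rw [show F.psi α * (a * b) * (F.psi α)⁻¹ = F.psi α * a * (F.psi α)⁻¹ * (F.psi α * b * (F.psi α)⁻¹) by group]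
    exact mul_mem ha hb
  | inv a _ ha =>
    rw [show F.psi α * a⁻¹ * (F.psi α)⁻¹ = (F.psi α * a * (F.psi α)⁻¹)⁻¹ by group]
    exact inv_mem ha

theorem eq_one_of_commute {π : Equiv.Perm (Fin 45)} (hπ : π ∈ F.psi.range)
    (h : ∀ k, π * phi (tv (pt k)) = phi (tv (pt k)) * π) : π = 1 := by
  obtain ⟨α, rfl⟩ := hπ
  refine Equiv.ext fun k => ?_
  have e : phi (tv (pt (F.psi α k))) = phi (tv (pt k)) := by
    rw [← F.psi_conj, h, mul_inv_cancel_right]
  have key : ∀ a b : Fin 45, (∀ m, tauF a m = tauF b m) → a = b := fun a b hab => by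
    have h1 := List.all_eq_true.1 (List.all_eq_true.1 tau_sep (a : ℕ) (List.mem_range.2 a.2)) (b : ℕ)
      (List.mem_range.2 b.2)
    rw [Bool.or_eq_true, List.any_eq_true] at h1
    rcases h1 with h1 | ⟨m, hm, h1⟩
    · exact Fin.ext (Nat.eq_of_beq_eq_true h1)
    · have hlt : ∀ c : Fin 45, tauFn c m < 45 := fun c => by
        have h := List.all_eq_true.1 (List.all_eq_true.1 (List.all_eq_true.1 tau_ok (c : ℕ) (List.mem_range.2 c.2))
          (repR c) (List.contains_iff_mem.1 (repR_mem c))) m hm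
        rw [Bool.and_eq_true, Nat.blt_eq] at h
        exact h.1
      have hv := congrArg Fin.val (hab ⟨m, List.mem_range.1 hm⟩)
      change tauFn a m % 45 = tauFn b m % 45 at hv
      rw [Nat.mod_eq_of_lt (hlt a), Nat.mod_eq_of_lt (hlt b)] at hv
      simp [hv] at h1
  exact key _ _ fun m => by rw [Equiv.Perm.one_apply, ← phi_tv, e, phi_tv]

theorem exists_odd : ∃ π ∈ F.psi.range, Equiv.Perm.sign π = -1 := by
  have h := odd_ok
  simp only [Bool.and_eq_true] at h
  have hf := fits_of_all h.1.1.1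
  refine ⟨_, ⟨⟨F.el oddData, F.el_mem_C hf h.1.1.2 h.1.2⟩, rfl⟩, ?_⟩
  have e : F.psi ⟨F.el oddData, F.el_mem_C hf h.1.1.2 h.1.2⟩ = swapPerm oddSwaps := Equiv.ext fun k => by
    refine F.psi_eq _ (repR_mem k) ?_
    have h2 := List.all_eq_true.1 h.2 (k : ℕ) (List.mem_range.2 k.2)
    rw [Bool.and_eq_true] at h2
    show inFib (swapPerm oddSwaps k : Fin 45) ((F.θ (F.el oddData) (repR k) : Row) : ℕ) = true
    rw [F.el_spec hf, of_decide_eq_true (List.all_eq_true.1 swap_ok.1 k (List.mem_finRange k))]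
    exact h2.2
  rw [e, sign_swapPerm _ fun x hx => of_decide_eq_true (List.all_eq_true.1 swap_ok.2.1 x hx), swap_ok.2.2]
  decide

theorem sign_n45 {x : Equiv.Perm (Fin 45)} (hx : x ∈ N45) : Equiv.Perm.sign x = 1 := by
  haveI := n45_simple
  set χ : N45 →* ℤˣ := Equiv.Perm.sign.comp N45.subtype
  rcases (inferInstance : χ.ker.Normal).eq_bot_or_eq_top with h | h
  · exfalso
    have := Nat.card_le_card_of_injective χ ((MonoidHom.ker_eq_bot_iff χ).1 h)
    rw [card_n45, Nat.card_eq_fintype_card, Fintype.card_units_int] at this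
    omega
  · exact MonoidHom.mem_ker.1 (h ▸ Subgroup.mem_top (⟨x, hx⟩ : N45) : (⟨x, hx⟩ : N45) ∈ χ.ker)

theorem card_range_ge : 51840 ≤ Nat.card F.psi.range := by
  obtain ⟨π, hπ, hs⟩ := F.exists_odd
  have := Nat.card_le_card_of_injective
    (fun p : Bool × N45 => (⟨cond p.1 π 1 * p.2, mul_mem (by cases p.1 <;> simp [hπ]) (F.n45_le p.2.2)⟩ : F.psi.range))
    (by
      rintro ⟨a, x, hx⟩ ⟨b, y, hy⟩ e
      have e' : cond a π 1 * x = cond b π 1 * y := congrArg Subtype.val e
      have hsgn := congrArg Equiv.Perm.sign e'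
      rw [map_mul, map_mul, sign_n45 hx, sign_n45 hy] at hsgn
      obtain rfl : a = b := by cases a <;> cases b <;> simp [hs] at hsgn ⊢
      exact Prod.ext rfl (Subtype.ext (mul_left_cancel e')))
  rw [Nat.card_prod, card_n45, Nat.card_eq_fintype_card (α := Bool), Fintype.card_bool] at this
  omega

theorem cards [Finite A] : Nat.card F.psi.range = 51840 ∧ Nat.card F.Qs = 2 ^ 11 ∧
    F.Qs = hull F.jz F.uA F.vA 5 := by
  have h1 := F.psi.ker.card_mul_index
  rw [Subgroup.index_ker] at h1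
  have hQ : Nat.card F.Qs = Nat.card F.psi.ker := Subgroup.card_subtype _ _
  have h2 : 2 ^ 11 ≤ Nat.card (hull F.jz F.uA F.vA 5) := le_trans (by norm_num) F.pairs.card_hull_ge
  have h3 := Subgroup.card_le_of_le F.hull_le_Qs
  have h4 := F.card_C_le
  have h5 := F.card_range_ge
  have hk : Nat.card F.psi.ker ≤ 2 ^ 11 := by
    by_contra hlt
    have := Nat.mul_le_mul (show 2 ^ 11 + 1 ≤ Nat.card F.psi.ker by omega) h5
    omega
  have hk' : Nat.card F.psi.ker = 2 ^ 11 := by omega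
  rw [hk'] at h1
  refine ⟨by omega, hQ.trans hk', (Subgroup.eq_of_le_of_card_ge F.hull_le_Qs ?_).symm⟩
  omega

end Frame

end CfsgLib.Recog.SporBound.Fi22Pair
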