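import Cfsg.Agent.Lib.Recog.SporBound.Fi22Pair.Kernel
import Cfsg.Agent.Lib.PGroups.Extraspecial
import Cfsg.Agent.Lib.LocalEvenB.CharP
import Cfsg.Prelude.Def_MonsterType

set_option autoImplicit false
set_option maxRecDepth 20000

/-!
The centralizer of a product of two commuting transpositions in Aut Fi22 has generalized Fitting subgroup a large
extraspecial group of order 2^11 with quotient Aut PSU(4, 2) (owner: helper24).
-/

namespace CfsgLib.Recog.SporBound.Fi22Pair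

open Cfsg CfsgLib.ThreeTrans.CosetIndex
open CfsgLib.Recog.SporBound.Fi22U6 (origin base)
open CfsgLib.Recog.SporBound.Fi22Aut
open scoped commutatorElement

namespace Frame

variable {A : Type*} [Group A] (F : Frame A)

theorem Qs_le_C : F.Qs ≤ F.C := Subgroup.map_subtype_le _

theorem mem_Qs {x : A} : x ∈ F.Qs ↔ ∃ h : x ∈ F.C, F.psi ⟨x, h⟩ = 1 := by
  constructor
  · rintro ⟨⟨y, hy⟩, hk, rfl⟩
    exact ⟨hy, MonoidHom.mem_ker.1 hk⟩
  · rintro ⟨h, hk⟩
    exact ⟨⟨x, h⟩, MonoidHom.mem_ker.2 hk, rfl⟩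

theorem conj_mem_Qs {c x : A} (hc : c ∈ F.C) (hx : x ∈ F.Qs) : c * x * c⁻¹ ∈ F.Qs := by
  obtain ⟨h, hk⟩ := F.mem_Qs.1 hx
  refine F.mem_Qs.2 ⟨mul_mem (mul_mem hc h) (inv_mem hc), ?_⟩
  rw [show (⟨c * x * c⁻¹, _⟩ : F.C) = ⟨c, hc⟩ * ⟨x, h⟩ * ⟨c, hc⟩⁻¹ from rfl, map_mul, map_mul, hk, mul_one,
    map_inv, mul_inv_cancel]

theorem uA_mem {i : ℕ} (hi : i < 5) : F.uA i ∈ F.Qs ∧ F.vA i ∈ F.Qs :=
  ⟨F.ker_mem (uEl_mem hi).1, F.ker_mem (uEl_mem hi).2⟩

variable [Finite A]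

theorem zpow_of_commute {x : A} (hx : x ∈ F.Qs) (h : ∀ i < 5, Commute x (F.uA i) ∧ Commute x (F.vA i)) :
    x ∈ Subgroup.zpowers F.jz :=
  F.pairs.mem_zpowers_of_commute (F.cards.2.2 ▸ hx) h

theorem center_Qs : Subgroup.center F.Qs = (Subgroup.zpowers F.jz).subgroupOf F.Qs := by
  ext ⟨x, hx⟩
  rw [Subgroup.mem_center_iff, Subgroup.mem_subgroupOf]
  constructor
  · intro h
    refine F.zpow_of_commute hx fun i hi => ⟨?_, ?_⟩
    · exact (congrArg Subtype.val (h ⟨_, (F.uA_mem hi).1⟩)).symm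
    · exact (congrArg Subtype.val (h ⟨_, (F.uA_mem hi).2⟩)).symm
  · rintro ⟨k, rfl⟩ ⟨y, hy⟩
    exact Subtype.ext
      ((show Commute y F.jz from Subgroup.mem_centralizer_singleton_iff.1 (F.Qs_le_C hy)).zpow_right k).eq

theorem center_map : (Subgroup.center F.Qs).map F.Qs.subtype = Subgroup.zpowers F.jz := by
  rw [F.center_Qs, Subgroup.map_subgroupOf_eq_of_le ((Subgroup.zpowers_le).2 F.jz_ker)]

theorem card_z : Nat.card (Subgroup.zpowers F.jz) = 2 := by
  rw [Nat.card_zpowers]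
  exact orderOf_eq_prime (by rw [pow_two, F.jz_sq]) F.jz_ne

theorem extraspecial : Cfsg.IsExtraspecial 2 F.Qs := by
  haveI : Fact (Nat.Prime 2) := ⟨Nat.prime_two⟩
  have hz : ∀ x : F.Qs, (x : A) ∈ Subgroup.zpowers F.jz → x ∈ Subgroup.center F.Qs := fun x hx => by
    rw [F.center_Qs, Subgroup.mem_subgroupOf]; exact hx
  have hcs := F.pairs.comm_sq
  rw [← F.cards.2.2] at hcs
  refine CfsgLib.PGroups.isExtraspecial_of (IsPGroup.of_card F.cards.2.1) (fun h => ?_) ?_ ?_ fun x => hz _ ?_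
  · refine F.pairs.not_commute (n := 4) ?_
    exact congrArg Subtype.val (h.is_comm.comm (⟨_, (F.uA_mem (by norm_num)).1⟩ : F.Qs)
      ⟨_, (F.uA_mem (by norm_num)).2⟩)
  · rw [F.center_Qs, Nat.card_congr (Subgroup.subgroupOfEquivOfLe ((Subgroup.zpowers_le).2 F.jz_ker)).toEquiv,
      F.card_z]
  · rw [commutator_def, Subgroup.commutator_le]
    exact fun x _ y _ => hz _ ((hcs x x.2).2 y y.2)
  · simpa [pow_two] using (hcs x x.2).1

theorem centralizer_Qs : Subgroup.centralizer (F.Qs : Set A) = (Subgroup.center F.Qs).map F.Qs.subtype := by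
  refine le_antisymm (fun x hx => ?_) ?_
  swap
  · rintro _ ⟨⟨x, hx⟩, hc, rfl⟩
    exact Subgroup.mem_centralizer_iff.2 fun y hy => congrArg Subtype.val (Subgroup.mem_center_iff.1 hc ⟨y, hy⟩)
  have hxC : x ∈ F.C :=
    Subgroup.mem_centralizer_singleton_iff.2 (Subgroup.mem_centralizer_iff.1 hx _ F.jz_ker).symm
  suffices hxQ : x ∈ F.Qs from
    ⟨⟨x, hxQ⟩, Subgroup.mem_center_iff.2 fun y => Subtype.ext (Subgroup.mem_centralizer_iff.1 hx y y.2), rfl⟩
  by_contra hxQ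
  have hne : F.psi ⟨x, hxC⟩ ≠ 1 := fun e => hxQ (F.mem_Qs.2 ⟨hxC, e⟩)
  set M : Subgroup (Equiv.Perm (Fin 45)) :=
    ((Subgroup.centralizer (F.Qs : Set A)).subgroupOf F.C).map F.psi
  have hMconj : ∀ α : F.C, ∀ m ∈ M, F.psi α * m * (F.psi α)⁻¹ ∈ M := by
    rintro α _ ⟨y, hy, rfl⟩
    refine ⟨α * y * α⁻¹, ?_, by simp⟩
    refine Subgroup.mem_subgroupOf.2 (Subgroup.mem_centralizer_iff.2 fun q hq => ?_)
    have hq' : (α : A)⁻¹ * q * α ∈ F.Qs := by simpa using F.conj_mem_Qs (inv_mem α.2) hq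
    have hcy : (α : A)⁻¹ * q * α * y = y * ((α : A)⁻¹ * q * α) :=
      Subgroup.mem_centralizer_iff.1 (Subgroup.mem_subgroupOf.1 hy) _ hq'
    calc q * ((α : A) * y * (α : A)⁻¹) = α * ((α : A)⁻¹ * q * α * y) * (α : A)⁻¹ := by group
      _ = (α : A) * y * (α : A)⁻¹ * q := by rw [hcy]; group
  have hN : N45 ≤ M := by
    haveI := n45_simple
    haveI hn : (M.subgroupOf N45).Normal := ⟨fun m hm g => by
      obtain ⟨α, hα⟩ := F.n45_le g.2
      rw [Subgroup.mem_subgroupOf] at hm ⊢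
      simpa [← hα] using hMconj α _ hm⟩
    rcases hn.eq_bot_or_eq_top with h | h
    · refine absurd ?_ hne
      have hm : F.psi ⟨x, hxC⟩ ∈ M := ⟨⟨x, hxC⟩, Subgroup.mem_subgroupOf.2 hx, rfl⟩
      refine F.eq_one_of_commute ⟨_, rfl⟩ fun k => ?_
      set π := F.psi ⟨x, hxC⟩
      set t := phi (tv (pt k))
      have ht : t ∈ N45 := Subgroup.subset_closure ⟨k, rfl⟩
      have h1 : π * t * π⁻¹ * t⁻¹ ∈ N45 := mul_mem (F.range_normalizes ⟨_, rfl⟩ ht) (inv_mem ht)
      have h2 : π * t * π⁻¹ * t⁻¹ ∈ M := by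
        obtain ⟨α, hα⟩ := F.n45_le ht
        rw [show π * t * π⁻¹ * t⁻¹ = π * (t * π⁻¹ * t⁻¹) by group, ← hα]
        exact mul_mem hm (hMconj α _ (inv_mem hm))
      have h3 : (⟨_, h1⟩ : N45) ∈ M.subgroupOf N45 := Subgroup.mem_subgroupOf.2 h2
      rw [h, Subgroup.mem_bot] at h3
      have h4 : π * t * π⁻¹ * t⁻¹ = 1 := congrArg Subtype.val h3
      exact mul_inv_eq_iff_eq_mul.1 (mul_inv_eq_one.1 h4)
    · exact Subgroup.subgroupOf_eq_top.1 h
  obtain ⟨y, hy, e⟩ := hN (Subgroup.subset_closure ⟨0, rfl⟩ : phi (tv (pt 0)) ∈ N45)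
  rw [← F.psi_gK] at e
  set g : F.C := F.gK 0
  have hq : ((y : A))⁻¹ * g ∈ F.Qs := F.mem_Qs.2 ⟨mul_mem (inv_mem y.2) g.2, by
    show F.psi (y⁻¹ * g) = 1
    rw [map_mul, map_inv, e, inv_mul_cancel]⟩
  set q := ((y : A))⁻¹ * g with hqdef
  set v := F.vA 0
  have hv : v ∈ F.Qs := (F.uA_mem (by norm_num)).2
  have hcs := F.pairs.comm_sq
  rw [← F.cards.2.2] at hcs
  obtain ⟨k, hk⟩ := (hcs q hq).2 v hv
  have hg : (g : A) = y * q := by rw [hqdef, mul_inv_cancel_left]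
  have hyv : v * (y : A) = y * v := Subgroup.mem_centralizer_iff.1 (Subgroup.mem_subgroupOf.1 hy) _ hv
  have hcase : (g : A) * v = v * g ∨ (g : A) * v = F.jz * (v * g) := by
    have hk' : F.jz ^ k = 1 ∨ F.jz ^ k = F.jz := by
      rcases Int.even_or_odd' k with ⟨m, rfl | rfl⟩
      · left
        rw [zpow_mul, show F.jz ^ (2 : ℤ) = 1 by rw [zpow_two, F.jz_sq], one_zpow]
      · right
        rw [zpow_add, zpow_mul, show F.jz ^ (2 : ℤ) = 1 by rw [zpow_two, F.jz_sq], one_zpow, one_mul, zpow_one]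
    have hzy : F.jz * (y : A) = y * F.jz := (Subgroup.mem_centralizer_singleton_iff.1 y.2).symm
    have hqv : q * v = F.jz ^ k * (v * q) := by
      rw [show F.jz ^ k = ⁅q, v⁆ from hk, commutatorElement_def]; group
    rw [hg, mul_assoc, hqv]
    rcases hk' with hk' | hk' <;> rw [hk']
    · left; rw [one_mul, ← mul_assoc, ← hyv, mul_assoc]
    · right; rw [← mul_assoc (y : A), ← hzy, mul_assoc, ← mul_assoc (y : A), ← hyv, mul_assoc v]
  have fg : ∀ c : Row, ((F.θ (g : A) c : Row) : ℕ) = ev (false, [rep 0]) c :=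
    F.el_spec (by intro r hr; rw [List.mem_singleton.1 hr]; exact (repR 0).2)
  have fv : ∀ c : Row, ((F.θ v c : Row) : ℕ) = ev (vEl 0) c := F.el_spec (ker_spec (uEl_mem (by norm_num)).2).1
  obtain ⟨w1, w2⟩ := wit_ok
  rcases hcase with h | h
  · have := F.agree_of_eq (f := fun c => ev (false, [rep 0]) (ev (vEl 0) c))
      (g := fun c => ev (vEl 0) (ev (false, [rep 0]) c)) (F.mul_spec fg fv) (F.mul_spec fv fg) h
    rw [w1] at this
    exact Bool.false_ne_true this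
  · have := F.agree_of_eq (f := fun c => ev (false, [rep 0]) (ev (vEl 0) c)) (F.mul_spec fg fv) (g := fun c => ev zData (ev (vEl 0) (ev (false, [rep 0]) c)))
      (fun c => F.mul_spec (f := ev zData) (g := fun c => ev (vEl 0) (ev (false, [rep 0]) c)) F.jz_spec
        (F.mul_spec (f := ev (vEl 0)) (g := ev (false, [rep 0])) fv fg) c) h
    rw [w2] at this
    exact Bool.false_ne_true this

theorem no_odd (K : Subgroup A) (hodd : Odd (Nat.card K)) (hn : F.Qs ≤ Subgroup.normalizer (K : Set A)) :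
    K = ⊥ := by
  by_contra hne
  have hconj : ∀ q ∈ F.Qs, ∀ k ∈ K, q * k * q⁻¹ ∈ K := fun q hq k hk =>
    (Subgroup.mem_normalizer_iff.1 (hn hq) k).1 hk
  have hdisj : ∀ x, x ∈ K → x ∈ F.Qs → x = 1 := fun x h1 h2 => by
    have d1 : orderOf x ∣ Nat.card K := by
      rw [← Subgroup.orderOf_mk _ h1]; exact orderOf_dvd_natCard _
    have d2 : orderOf x ∣ 2 ^ 11 := by
      rw [← F.cards.2.1, ← Subgroup.orderOf_mk _ h2]; exact orderOf_dvd_natCard _
    exact orderOf_eq_one_iff.1 (Nat.dvd_one.1 (((Nat.coprime_two_right.2 hodd).pow_right 11).gcd_eq_one ▸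
      Nat.dvd_gcd d1 d2))
  have hinv := Pairs.inverts_of_fixed_free hodd F.jz_sq (fun k hk => hconj _ F.jz_ker k hk) fun k hk e => by
    have hkC : k ∈ F.C := Subgroup.mem_centralizer_singleton_iff.2 (mul_inv_eq_iff_eq_mul.1 e).symm
    have hcent : k ∈ Subgroup.centralizer (F.Qs : Set A) := Subgroup.mem_centralizer_iff.2 fun q hq => by
      have h1 : q * k * q⁻¹ * k⁻¹ ∈ K := mul_mem (hconj q hq k hk) (inv_mem hk)
      have h2 : q * k * q⁻¹ * k⁻¹ ∈ F.Qs := by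
        rw [show q * k * q⁻¹ * k⁻¹ = q * (k * q⁻¹ * k⁻¹) by group]
        exact mul_mem hq (F.conj_mem_Qs hkC (inv_mem hq))
      exact mul_inv_eq_iff_eq_mul.1 (mul_inv_eq_one.1 (hdisj _ h1 h2))
    rw [F.centralizer_Qs, F.center_map] at hcent
    exact hdisj k hk ((Subgroup.zpowers_le).2 F.jz_ker hcent)
  have hb := F.pairs.odd_bound K hodd hne hinv fun i hi k hk =>
    ⟨hconj _ (F.uA_mem hi).1 k hk, hconj _ (F.uA_mem hi).2 k hk⟩
  have h1 := Subgroup.card_le_card_group K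
  have h2 := F.card_le
  norm_num at hb
  omega

theorem range_core : Cfsg.pCore 2 F.psi.range = ⊥ := by
  haveI : Fact (Nat.Prime 2) := ⟨Nat.prime_two⟩
  haveI := n45_simple
  set M := Cfsg.pCore 2 F.psi.range
  haveI hMn : M.Normal := inferInstance
  set N := N45.subgroupOf F.psi.range
  haveI hn : N.Normal := ⟨fun x hx g => F.range_normalizes g.2 hx⟩
  haveI hns : IsSimpleGroup N := by
    haveI : Nontrivial N := (Subgroup.subgroupOfEquivOfLe F.n45_le).toEquiv.nontrivial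
    exact IsSimpleGroup.isSimpleGroup_of_surjective (Subgroup.subgroupOfEquivOfLe F.n45_le).symm.toMonoidHom
      (MulEquiv.surjective _)
  rcases (inferInstance : (M.subgroupOf N).Normal).eq_bot_or_eq_top with h | h
  · refine (Subgroup.eq_bot_iff_forall _).2 fun m hm => Subtype.ext ?_
    refine F.eq_one_of_commute m.2 fun k => ?_
    have ht : phi (tv (pt k)) ∈ N45 := Subgroup.subset_closure ⟨k, rfl⟩
    set t : F.psi.range := ⟨_, F.n45_le ht⟩
    have htN : t ∈ N := ht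
    have h1 : m * t * m⁻¹ * t⁻¹ ∈ N := mul_mem (hn.conj_mem _ htN m) (inv_mem htN)
    have h2 : m * t * m⁻¹ * t⁻¹ ∈ M := by
      rw [show m * t * m⁻¹ * t⁻¹ = m * (t * m⁻¹ * t⁻¹) by group]
      exact mul_mem hm (hMn.conj_mem _ (inv_mem hm) t)
    have h3 : (⟨_, h1⟩ : N) ∈ M.subgroupOf N := Subgroup.mem_subgroupOf.2 h2
    rw [h, Subgroup.mem_bot] at h3
    have h4 : m * t * m⁻¹ * t⁻¹ = 1 := congrArg Subtype.val h3
    exact congrArg Subtype.val (mul_inv_eq_iff_eq_mul.1 (mul_inv_eq_one.1 h4))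
  · exfalso
    obtain ⟨j, hj⟩ := IsPGroup.iff_card.1 ((CfsgLib.Core.isPGroup_pCore 2 F.psi.range).to_le
      (Subgroup.subgroupOf_eq_top.1 h : N ≤ M))
    rw [Nat.card_congr (Subgroup.subgroupOfEquivOfLe F.n45_le).toEquiv, card_n45] at hj
    have h3 : 3 ∣ 2 := (Nat.prime_three.dvd_of_dvd_pow (show 3 ∣ 2 ^ j by rw [← hj]; norm_num))
    norm_num at h3

theorem gFitting : Cfsg.generalizedFittingSubgroup F.C = F.psi.ker := by
  haveI : Fact (Nat.Prime 2) := ⟨Nat.prime_two⟩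
  have hker : IsPGroup 2 F.psi.ker := by
    refine IsPGroup.of_card (n := 11) ?_
    rw [← F.cards.2.1]
    exact (Subgroup.card_subtype _ _).symm
  have hle : F.psi.ker ≤ Cfsg.pCore 2 F.C := CfsgLib.Core.le_pCore hker
  have hge : Cfsg.pCore 2 F.C ≤ F.psi.ker := by
    intro x hx
    have h := CfsgLib.Core.map_pCore_le (p := 2) F.psi.rangeRestrict F.psi.rangeRestrict_surjective ⟨x, hx, rfl⟩
    rw [F.range_core, Subgroup.mem_bot] at h
    exact MonoidHom.mem_ker.2 (congrArg Subtype.val h)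
  have heq := le_antisymm hge hle
  rw [← heq, CfsgLib.LocalEvenB.gFitting_eq_pCore_iff, heq]
  intro x hx
  have : (x : A) ∈ Subgroup.centralizer (F.Qs : Set A) := by
    refine Subgroup.mem_centralizer_iff.2 ?_
    rintro _ ⟨y, hy, rfl⟩
    exact congrArg Subtype.val (Subgroup.mem_centralizer_iff.1 hx y hy)
  rw [F.centralizer_Qs, F.center_map] at this
  obtain ⟨h, hk⟩ := F.mem_Qs.1 ((Subgroup.zpowers_le).2 F.jz_ker this)
  exact MonoidHom.mem_ker.2 hk

theorem range_equiv {K : Type} [Field K] [Fintype K] (hK : Fintype.card K = 4) :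
    Nonempty (F.psi.range ≃* MulAut (Cfsg.PSU 4 K 2)) := by
  obtain ⟨e⟩ := n45_equiv hK
  set N := N45.subgroupOf F.psi.range
  haveI hn : N.Normal := ⟨fun x hx g => F.range_normalizes g.2 hx⟩
  let eN : N ≃* Cfsg.PSU 4 K 2 := (Subgroup.subgroupOfEquivOfLe F.n45_le).trans e
  let χ : F.psi.range →* MulAut (Cfsg.PSU 4 K 2) := (MulAut.congr eN).toMonoidHom.comp MulAut.conjNormal
  have hinj : Function.Injective χ := by
    rw [← MonoidHom.ker_eq_bot_iff, Subgroup.eq_bot_iff_forall]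
    intro m hm
    refine Subtype.ext (F.eq_one_of_commute m.2 fun k => ?_)
    have ht : phi (tv (pt k)) ∈ N45 := Subgroup.subset_closure ⟨k, rfl⟩
    have h1 : MulAut.conjNormal m = (1 : MulAut N) :=
      (MulAut.congr eN).injective ((MonoidHom.mem_ker.1 hm).trans (map_one _).symm)
    have h2 := congrArg (fun x : F.psi.range => (x : Equiv.Perm (Fin 45)))
      ((MulAut.conjNormal_apply m ⟨⟨_, F.n45_le ht⟩, ht⟩).symm.trans
        (congrArg (fun f : MulAut N => ((f ⟨⟨_, F.n45_le ht⟩, ht⟩ : N) : F.psi.range)) h1))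
    exact mul_inv_eq_iff_eq_mul.1 h2
  have : Finite (Cfsg.PSU 4 K 2) := Finite.of_equiv _ eN.toEquiv
  haveI : Finite (MulAut (Cfsg.PSU 4 K 2)) :=
    Finite.of_injective (fun α : MulAut (Cfsg.PSU 4 K 2) => (α : Cfsg.PSU 4 K 2 → Cfsg.PSU 4 K 2)) DFunLike.coe_injective
  have hc := Nat.card_le_card_of_injective χ hinj
  exact ⟨MulEquiv.ofBijective χ ((Nat.bijective_iff_injective_and_card χ).2 ⟨hinj,
    le_antisymm hc (by rw [F.cards.1]; exact card_aut_psu hK)⟩)⟩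

/-- The structure of the centralizer of the product. -/
theorem structure_C :
    Cfsg.IsLargeExtraspecial F.Qs ∧ Nat.card F.Qs = 2 ^ 11 ∧
      (Cfsg.generalizedFittingSubgroup F.C).map F.C.subtype = F.Qs := by
  refine ⟨⟨F.extraspecial, F.centralizer_Qs, ?_, F.no_odd⟩, F.cards.2.1, by rw [F.gFitting]; rfl⟩
  rw [F.center_map, Subgroup.zpowers_eq_closure, Subgroup.centralizer_closure]
  intro c hc
  refine Subgroup.mem_normalizer_iff.2 fun q => ⟨F.conj_mem_Qs hc, fun h => ?_⟩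
  simpa [mul_assoc] using F.conj_mem_Qs (inv_mem hc) h

end Frame

end CfsgLib.Recog.SporBound.Fi22Pair
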