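import Cfsg.Agent.Lib.Recog.SporBound.Fi22Pair.Theta
import Mathlib.GroupTheory.GroupAction.Quotient

set_option autoImplicit false
set_option maxRecDepth 20000

/-!
The centralizer of a product of two commuting transpositions in the automorphism group of Fi22 is the
stabiliser of their unordered pair of rows; a bound for its order; its action on the 45 fibres of the common
neighbours (owner: helper24).
-/

namespace CfsgLib.Recog.SporBound.Fi22Pair

open Cfsg CfsgLib.ThreeTrans.CosetIndex
open CfsgLib.Recog.SporBound.Fi22Group (a act K card_and_faithful finite_fi22)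
open CfsgLib.Recog.SporBound.Fi22U6 (stab_eq origin base inO orbit_iff)
open CfsgLib.Recog.SporBound.Fi22Aut

namespace Frame

variable {A : Type*} [Group A] (F : Frame A)

theorem fits_z : Fits zData := by
  intro r hr
  simp only [zData, List.mem_cons, List.not_mem_nil, or_false] at hr
  rcases hr with rfl | rfl <;> norm_num

/-- The product of the two transpositions. -/
noncomputable def jz : A := F.el zData

theorem jz_spec (c : Row) : ((F.θ F.jz c : Row) : ℕ) = ev zData c := F.el_spec fits_z c

theorem jz_eq : F.θ F.jz = act (T origin) * act (T base) := Equiv.ext fun c => Fin.ext (by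
  rw [F.jz_spec, Equiv.Perm.mul_apply, ← trace_pal, ← trace_pal]; rfl)

/-- The centralizer. -/
abbrev C : Subgroup A := Subgroup.centralizer ({F.jz} : Set A)

theorem isPt_iff (r : Row) : isPt r = true ↔ r = origin ∨ r = base := by
  simp [isPt, Fin.ext_iff, origin, base]

theorem com_base : com origin base := (comB_iff _ _).1 (by decide +kernel)

theorem mem_C_iff (α : A) : α ∈ F.C ↔ isPt (F.θ α origin) = true ∧ isPt (F.θ α base) = true := by
  rw [Subgroup.mem_centralizer_singleton_iff]
  constructor
  · intro h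
    set r := F.θ α origin
    set s := F.θ α base
    have hrs : com r s := (F.com_iff' α _ _).2 com_base
    have hfun : ∀ c : Row, act (T r) (act (T s) c) = F.θ F.jz c := by
      intro c
      obtain ⟨c, rfl⟩ := (F.θ α).surjective c
      rw [← F.equi, ← F.equi, show act (T origin) (act (T base) c) = F.θ F.jz c by rw [F.jz_eq]; rfl,
        ← Equiv.Perm.mul_apply, ← map_mul, ← Equiv.Perm.mul_apply, ← map_mul, h]
    have hz : ∀ x : Row, F.θ F.jz x = x → (x : ℕ) ∈ fixData := fun x hx => by
      have h1 := List.all_eq_true.1 fix_ok x (List.mem_range.2 x.2)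
      rw [← F.jz_spec, hx] at h1
      simpa using h1
    have hr : F.θ F.jz r = r := by rw [← hfun, com_symm hrs, T_fix]
    have hs : F.θ F.jz s = s := by rw [← hfun, T_fix, show act (T r) s = s from hrs]
    have h1 := List.all_eq_true.1 (List.all_eq_true.1 uniq_ok r (hz r hr)) s (hz s hs)
    have hag : agree (ev (false, [(r : ℕ), (s : ℕ)])) (ev zData) = true := by
      refine List.all_eq_true.2 fun c hc => ?_
      obtain ⟨x, hx, rfl⟩ := List.getElem_of_mem hc
      have h2 := hfun (gl x)
      have h3 : ev (false, [(r : ℕ), (s : ℕ)]) (gl x : Row) = ((act (T r) (act (T s) (gl x)) : Row) : ℕ) := by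
        rw [← trace_pal, ← trace_pal]; rfl
      rw [show ((gl x : Row) : ℕ) = glData[x] from List.getD_eq_getElem _ _ hx, h2, F.jz_spec,
        show ((gl x : Row) : ℕ) = glData[x] from List.getD_eq_getElem _ _ hx] at h3
      rw [h3]
      exact Nat.beq_refl _
    rw [hag, Bool.not_true, Bool.false_or, Bool.and_eq_true, Bool.and_eq_true] at h1
    exact h1.1
  · rintro ⟨h0, h7⟩
    refine F.injective (Equiv.ext fun c => ?_)
    rw [map_mul, map_mul, Equiv.Perm.mul_apply, Equiv.Perm.mul_apply, F.jz_eq, Equiv.Perm.mul_apply,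
      Equiv.Perm.mul_apply, F.equi, F.equi]
    have hne : F.θ α origin ≠ F.θ α base := fun e => absurd ((F.θ α).injective e) (by decide)
    rcases (isPt_iff _).1 h0 with e0 | e0 <;> rcases (isPt_iff _).1 h7 with e7 | e7 <;>
      first
        | exact absurd (e0.trans e7.symm) hne
        | (rw [e0, e7])
    rw [← Equiv.Perm.mul_apply, ← map_mul, ← com_iff.1 com_base, map_mul, Equiv.Perm.mul_apply]

/-- A row of the rows 0 and 7 is sent to such a row. -/
theorem isPt_map {α : A} (hα : α ∈ F.C) {r : Row} (h : isPt r = true) : isPt (F.θ α r) = true := by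
  obtain ⟨h0, h7⟩ := (F.mem_C_iff α).1 hα
  rcases (isPt_iff r).1 h with rfl | rfl
  exacts [h0, h7]

theorem el_mem_C {e : Bool × List ℕ} (he : Fits e) (h0 : isPt (ev e 0) = true) (h7 : isPt (ev e 7) = true) :
    F.el e ∈ F.C :=
  (F.mem_C_iff _).2 ⟨by rw [F.el_spec he]; exact h0, by rw [F.el_spec he]; exact h7⟩

theorem jz_mem : F.jz ∈ F.C := Subgroup.mem_centralizer_singleton_iff.2 rfl

theorem nbr_count : (List.range 3510).countP (fun r => FiHat3510.mask0.testBit r) = 693 := by decide +kernel

theorem card_filter_rows (n : ℕ) (f : ℕ → Bool) :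
    Nat.card {s : Fin n // f s = true} = (List.range n).countP f := by
  classical
  rw [Nat.card_eq_fintype_card, Fintype.card_subtype, List.countP_eq_length_filter,
    ← List.toFinset_card_of_nodup (List.nodup_range.filter _), ← Finset.card_map Fin.valEmbedding]
  refine congrArg Finset.card ?_
  ext c
  simp only [List.mem_toFinset, List.mem_filter, List.mem_range, Finset.mem_map, Finset.mem_filter,
    Finset.mem_univ, true_and, Fin.valEmbedding_apply]
  exact ⟨fun ⟨d, hd, e⟩ => e ▸ ⟨d.2, hd⟩, fun ⟨hc, hm⟩ => ⟨⟨c, hc⟩, hm, rfl⟩⟩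

theorem card_nbr : Nat.card {s : Row // FiHat3510.mask0.testBit s = true} = 693 :=
  (card_filter_rows FiHat3510.data.n FiHat3510.mask0.testBit).trans nbr_count

theorem card_C_le [Finite A] : Nat.card F.C ≤ 2 ^ 11 * 51840 := by
  classical
  haveI : Fintype A := Fintype.ofFinite A
  letI act2 : MulAction A (Row × Row) := MulAction.compHom (Row × Row)
    (({ toFun := fun π => Equiv.prodCongr π π
        map_one' := Equiv.ext fun _ => rfl
        map_mul' := fun _ _ => Equiv.ext fun _ => rfl } :
      Equiv.Perm Row →* Equiv.Perm (Row × Row)).comp F.θ)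
  have hsmul : ∀ (α : A) (p : Row × Row), α • p = (F.θ α p.1, F.θ α p.2) := fun _ _ => rfl
  set p₀ : Row × Row := (origin, base)
  set S := MulAction.stabilizer A p₀
  -- the orbit of the ordered pair
  have horb : 3510 * 693 ≤ Nat.card (MulAction.orbit A p₀) := by
    let N := {s : Row // FiHat3510.mask0.testBit s = true}
    have hN : Nat.card N = 693 := card_nbr
    have hmem : ∀ x : Row × N, (x.1, act (gr x.1) x.2.1) ∈ MulAction.orbit A p₀ := by
      rintro ⟨r, s, hs⟩
      obtain ⟨k, hk, hks⟩ := (orbit_iff s).1 hs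
      obtain ⟨α, hα⟩ := F.inner (gr r * k)
      refine ⟨α, ?_⟩
      show α • p₀ = _
      rw [hsmul, hα, map_mul, Equiv.Perm.mul_apply, Equiv.Perm.mul_apply]
      refine Prod.ext ?_ ?_
      · show act (gr r) (act k origin) = r
        rw [stab_eq.2 hk, gr_origin]
      · show act (gr r) (act k base) = act (gr r) s
        rw [hks]
    have := Nat.card_le_card_of_injective
      (fun x : Row × N => (⟨_, hmem x⟩ : MulAction.orbit A p₀)) (by
        rintro ⟨r, s⟩ ⟨r', s'⟩ e
        have e' := congrArg Subtype.val e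
        simp only [Prod.mk.injEq] at e'
        obtain ⟨rfl, e2⟩ := e'
        exact Prod.ext rfl (Subtype.ext ((act (gr r)).injective e2)))
    rwa [Nat.card_prod, hN, Nat.card_fin, show FiHat3510.data.n = 3510 from rfl] at this
  have hos : Nat.card (MulAction.orbit A p₀) * Nat.card S = Nat.card A := by
    rw [Nat.card_eq_fintype_card, Nat.card_eq_fintype_card, Nat.card_eq_fintype_card]
    exact MulAction.card_orbit_mul_card_stabilizer_eq_card_group A p₀
  have hS : Nat.card S ≤ 2 ^ 10 * 51840 := by
    have h := Nat.mul_le_mul_right (Nat.card S) horb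
    rw [hos] at h
    have := F.card_le
    omega
  -- the centraliser has at most twice the order
  have hC : Nat.card F.C ≤ 2 * Nat.card S := by
    let f : F.C → Bool := fun α => decide (F.θ (α : A) origin = origin)
    by_contra hlt
    have hex : ∃ b : Bool, Nat.card S < Nat.card {α : F.C // f α = b} := by
      by_contra hno
      push Not at hno
      have e : Nat.card F.C = Nat.card {α : F.C // f α = true} + Nat.card {α : F.C // f α = false} := by
        rw [Nat.card_congr (Equiv.sigmaFiberEquiv f).symm, Nat.card_sigma, Fintype.sum_bool]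
      have := hno true
      have := hno false
      omega
    obtain ⟨b, hb⟩ := hex
    have hne : Nonempty {α : F.C // f α = b} := by
      by_contra h0
      rw [not_nonempty_iff] at h0
      rw [Nat.card_of_isEmpty (α := {α : F.C // f α = b})] at hb
      omega
    obtain ⟨⟨α₀, hα₀⟩⟩ := hne
    have hst : ∀ α : {α : F.C // f α = b}, ((α₀ : A)⁻¹ * (α.1 : A)) ∈ S := by
      rintro ⟨α, hα⟩
      have hf : decide (F.θ (α : A) origin = origin) = decide (F.θ (α₀ : A) origin = origin) := hα.trans hα₀.symm
      have heq : F.θ (α : A) origin = F.θ (α₀ : A) origin ∧ F.θ (α : A) base = F.θ (α₀ : A) base := by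
        obtain ⟨p0, p7⟩ := (F.mem_C_iff _).1 α.2
        obtain ⟨q0, q7⟩ := (F.mem_C_iff _).1 α₀.2
        rw [isPt_iff] at p0 p7 q0 q7
        rw [decide_eq_decide] at hf
        have hneb : (origin : Row) ≠ base := by decide
        have n1 : F.θ (α : A) origin ≠ F.θ (α : A) base := fun e => hneb ((F.θ _).injective e)
        have n2 : F.θ (α₀ : A) origin ≠ F.θ (α₀ : A) base := fun e => hneb ((F.θ _).injective e)
        rcases p0 with p0 | p0 <;> rcases q0 with q0 | q0 <;> rcases p7 with p7 | p7 <;>
          rcases q7 with q7 | q7 <;> simp_all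
      rw [MulAction.mem_stabilizer_iff, hsmul]
      refine Prod.ext ?_ ?_
      · show F.θ ((α₀ : A)⁻¹ * (α : A)) origin = origin
        rw [map_mul, Equiv.Perm.mul_apply, heq.1, map_inv, Equiv.Perm.coe_inv, Equiv.symm_apply_apply]
      · show F.θ ((α₀ : A)⁻¹ * (α : A)) base = base
        rw [map_mul, Equiv.Perm.mul_apply, heq.2, map_inv, Equiv.Perm.coe_inv, Equiv.symm_apply_apply]
    have := Nat.card_le_card_of_injective (fun α => (⟨_, hst α⟩ : S)) (fun α β e =>
      Subtype.ext (Subtype.ext (mul_left_cancel (congrArg Subtype.val e))))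
    omega
  omega

/-! ### The fibres -/

/-- The first row of a fibre. -/
noncomputable def repR (k : Fin 45) : Row := ⟨rep k, by
  have h := List.all_eq_true.1 fib_lt (k : ℕ) (List.mem_range.2 k.2)
  simp only [Bool.and_eq_true, Nat.blt_eq] at h
  exact h.1.1⟩

/-- A row lies in a fibre. -/
def InFib (k : Fin 45) (r : Row) : Prop := inFib k r = true

theorem repR_mem (k : Fin 45) : InFib k (repR k) := by
  have h := List.all_eq_true.1 fib_lt (k : ℕ) (List.mem_range.2 k.2)
  simp only [Bool.and_eq_true] at h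
  exact h.1.2

theorem comB_fib {k m : Fin 45} {r s : Row} (hr : InFib k r) (hs : InFib m s) :
    comB r s = comB (repR k) (repR m) := by
  have h := List.all_eq_true.1 (List.all_eq_true.1 (List.all_eq_true.1 fib_com (k : ℕ) (List.mem_range.2 k.2)) r
    (List.contains_iff_mem.1 hr)) (m : ℕ) (List.mem_range.2 m.2)
  exact eq_of_beq (List.all_eq_true.1 h s (List.contains_iff_mem.1 hs))

theorem fib_eq_of_com {k l : Fin 45} (h : ∀ m, comB (repR k) (repR m) = comB (repR l) (repR m)) : k = l := by
  have h1 := List.all_eq_true.1 (List.all_eq_true.1 fib_sep (k : ℕ) (List.mem_range.2 k.2)) (l : ℕ)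
    (List.mem_range.2 l.2)
  rw [Bool.or_eq_true, List.any_eq_true] at h1
  rcases h1 with h1 | ⟨m, hm, h1⟩
  · exact Fin.ext (Nat.eq_of_beq_eq_true h1)
  · have h2 := h ⟨m, List.mem_range.1 hm⟩
    rw [show comB (rep k) (rep m) = comB (rep l) (rep m) from h2] at h1
    simp at h1

theorem inB_iff (r : Row) : inB r = true ↔ ∃ k, InFib k r := by
  have h := eq_of_beq (List.all_eq_true.1 inB_ok r (List.mem_range.2 r.2))
  rw [h, List.any_eq_true]
  exact ⟨fun ⟨k, hk, e⟩ => ⟨⟨k, List.mem_range.1 hk⟩, e⟩, fun ⟨k, e⟩ => ⟨k, List.mem_range.2 k.2, e⟩⟩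

theorem inB_map {α : A} (hα : α ∈ F.C) {r : Row} (h : inB r = true) : inB (F.θ α r) = true := by
  have key : ∀ r : Row, inB r = true → ∀ p : Row, isPt p = true → comB p r = true ∧ isPt r = false := by
    intro r hr p hp
    simp only [inB, Bool.and_eq_true, Bool.not_eq_true'] at hr
    rcases (isPt_iff p).1 hp with rfl | rfl
    exacts [⟨hr.1.1, hr.2⟩, ⟨hr.1.2, hr.2⟩]
  have hinv : α⁻¹ ∈ F.C := inv_mem hα
  have hback : ∀ p : Row, F.θ α (F.θ α⁻¹ p) = p := fun p => by
    rw [map_inv, Equiv.Perm.coe_inv, Equiv.apply_symm_apply]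
  have hfwd : F.θ α⁻¹ (F.θ α r) = r := by rw [map_inv, Equiv.Perm.coe_inv, Equiv.symm_apply_apply]
  have h0 := F.isPt_map hinv (r := origin) rfl
  have h7 := F.isPt_map hinv (r := base) rfl
  simp only [inB, Bool.and_eq_true, Bool.not_eq_true']
  refine ⟨⟨?_, ?_⟩, Bool.eq_false_iff.2 fun e => ?_⟩
  · rw [show (0 : ℕ) = ((origin : Row) : ℕ) from rfl, ← hback origin, F.comB_map]
    exact (key r h _ h0).1
  · rw [show (7 : ℕ) = ((base : Row) : ℕ) from rfl, ← hback base, F.comB_map]
    exact (key r h _ h7).1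
  · have := F.isPt_map hinv e
    rw [hfwd] at this
    exact absurd this (by rw [(key r h _ (rfl : isPt (origin : Row) = true)).2]; exact Bool.false_ne_true)

theorem exists_fib_img {α : A} (hα : α ∈ F.C) (k : Fin 45) :
    ∃ l, ∀ r, InFib k r → InFib l (F.θ α r) := by
  obtain ⟨l, hl⟩ := (inB_iff _).1 (F.inB_map hα ((inB_iff _).2 ⟨k, repR_mem k⟩))
  refine ⟨l, fun r hr => ?_⟩
  obtain ⟨l', hl'⟩ := (inB_iff _).1 (F.inB_map hα ((inB_iff _).2 ⟨k, hr⟩))
  suffices l' = l from this ▸ hl'
  refine fib_eq_of_com fun m => ?_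
  obtain ⟨n, hn⟩ := (inB_iff _).1 (F.inB_map (inv_mem hα) ((inB_iff _).2 ⟨m, repR_mem m⟩))
  rw [← comB_fib hl' (repR_mem m), ← comB_fib hl (repR_mem m), ← F.comB_map α⁻¹, ← F.comB_map α⁻¹ (F.θ α (repR k))]
  simp only [map_inv, Equiv.Perm.coe_inv, Equiv.symm_apply_apply] at hn ⊢
  rw [comB_fib hr hn, comB_fib (repR_mem k) hn]

/-- The image of a fibre. -/
noncomputable def fimg (α : F.C) (k : Fin 45) : Fin 45 := (F.exists_fib_img α.2 k).choose

theorem fimg_spec (α : F.C) {k : Fin 45} {r : Row} (hr : InFib k r) : InFib (F.fimg α k) (F.θ α r) :=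
  (F.exists_fib_img α.2 k).choose_spec r hr

theorem fib_unique {k l : Fin 45} {r : Row} (hk : InFib k r) (hl : InFib l r) : k = l :=
  fib_eq_of_com fun m => by rw [← comB_fib hk (repR_mem m), ← comB_fib hl (repR_mem m)]

theorem fimg_eq (α : F.C) {k l : Fin 45} {r : Row} (hr : InFib k r) (h : InFib l (F.θ α r)) : F.fimg α k = l :=
  fib_unique (F.fimg_spec α hr) h

theorem fimg_mul (α β : F.C) (k : Fin 45) : F.fimg (α * β) k = F.fimg α (F.fimg β k) :=
  F.fimg_eq _ (repR_mem k) (by
    rw [Subgroup.coe_mul, map_mul, Equiv.Perm.mul_apply]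
    exact F.fimg_spec α (F.fimg_spec β (repR_mem k)))

theorem fimg_one (k : Fin 45) : F.fimg 1 k = k :=
  F.fimg_eq _ (repR_mem k) (by rw [Subgroup.coe_one, map_one]; exact repR_mem k)

/-- The action on the fibres. -/
noncomputable def psi : F.C →* Equiv.Perm (Fin 45) where
  toFun α :=
    { toFun := F.fimg α
      invFun := F.fimg α⁻¹
      left_inv := fun k => by rw [← fimg_mul, inv_mul_cancel, fimg_one]
      right_inv := fun k => by rw [← fimg_mul, mul_inv_cancel, fimg_one] }
  map_one' := Equiv.ext F.fimg_one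
  map_mul' α β := Equiv.ext fun k => F.fimg_mul α β k

theorem psi_eq (α : F.C) {k l : Fin 45} {r : Row} (hr : InFib k r) (h : InFib l (F.θ α r)) : F.psi α k = l :=
  F.fimg_eq α hr h

theorem psi_mem (α : F.C) {k : Fin 45} {r : Row} (hr : InFib k r) : InFib (F.psi α k) (F.θ α r) :=
  F.fimg_spec α hr

end Frame

end CfsgLib.Recog.SporBound.Fi22Pair
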