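import Cfsg.Agent.Lib.Recog.SporBound.Fi22Pair.Checks
import Cfsg.Agent.Lib.Recog.SporBound.Fi22Aut.Main

set_option autoImplicit false
set_option maxRecDepth 20000

/-!
The automorphism group of Fi22 on the rows of the 3510 transpositions (owner: helper24).

A `Frame` is an injective action of a finite group on the rows, equivariant for the transpositions, containing
the inner action and the diagram automorphism, of the right order.
-/

namespace CfsgLib.Recog.SporBound.Fi22Pair

open Cfsg CfsgLib.ThreeTrans.CosetIndex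
open CfsgLib.Recog.SporBound.Fi22Group (a act K card_and_faithful finite_fi22)
open CfsgLib.Recog.SporBound.Fi22U6 (trace_eq_act a_sq center_a stab_eq centralizer_a origin)
open CfsgLib.Recog.SporBound.Fi22Aut
open Cfsg.Agent.S1687 (fits gens)

local notation "𝔾" => Cfsg.Spor.Fi22

theorem gl_lt (x : ℕ) : glData.getD x 0 < 3510 := by
  have h : glData.all (fun r => Nat.blt r 3510) = true := by decide +kernel
  by_cases hx : x < glData.length
  · rw [List.getD_eq_getElem _ _ hx]
    simpa using List.all_eq_true.1 h _ (List.getElem_mem hx)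
  · rw [List.getD_eq_default _ _ (by omega)]; norm_num

/-- The row of a letter. -/
noncomputable def gl (x : ℕ) : Row := ⟨glData.getD x 0, gl_lt x⟩

theorem T_fix (r : Row) : act (T r) r = r := by
  refine T_inj ?_
  rw [T_equiv, mul_inv_cancel_right]

theorem com_symm {r s : Row} (h : com r s) : com s r := com_iff.2 (com_iff.1 h).symm

theorem gl_spec {x : ℕ} (hx : x < 9) : T (gl x) = a x := by
  have step : ∀ p q, ([(0, 1), (1, 2), (2, 3), (3, 4), (3, 7), (4, 5), (5, 6), (7, 8)] : List (ℕ × ℕ)).contains (p, q) = true →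
      (relWords Spor.Fi22.edges Spor.Fi22.extra gens).contains [p, q, p, q, p, q] = true →
      T (gl p) = a p → T (gl q) = a q := by
    intro p q hc hr hp
    have h := Nat.eq_of_beq_eq_true (List.all_eq_true.1 gl_step _ (List.contains_iff_mem.1 hc))
    have ht := trace_act [q, p] (gl p)
    have e : gl q = act (a p * a q) (gl p) := Fin.ext (by
      rw [show ((gl q : Row) : ℕ) = glData.getD q 0 from rfl, ← h, show glData.getD p 0 = ((gl p : Row) : ℕ) from rfl, ht]
      simp)
    rw [e, T_equiv, hp]
    have e6 := relWord_one Fi22Group.nodes (List.contains_iff_mem.1 hr)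
    simp only [List.map_cons, List.map_nil, List.prod_cons, List.prod_nil, mul_one] at e6
    have h3 := congrArg (fun z => z * a q) e6
    simp only [one_mul, mul_assoc, a_sq, mul_one] at h3
    calc a p * a q * a p * (a p * a q)⁻¹ = a p * (a q * (a p * (a q * a p))) := by
          rw [mul_inv_rev, inv_eq_of_mul_eq_one_right (a_sq p), inv_eq_of_mul_eq_one_right (a_sq q)]
          simp only [mul_assoc]
      _ = a q := h3
  have e0 : T (gl 0) = a 0 := by
    rw [show gl 0 = origin from Fin.ext rfl]; exact T_origin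
  have e1 := step 0 1 (by decide) (by decide +kernel) e0
  have e2 := step 1 2 (by decide) (by decide +kernel) e1
  have e3 := step 2 3 (by decide) (by decide +kernel) e2
  have e4 := step 3 4 (by decide) (by decide +kernel) e3
  have e7 := step 3 7 (by decide) (by decide +kernel) e3
  have e5 := step 4 5 (by decide) (by decide +kernel) e4
  have e6 := step 5 6 (by decide) (by decide +kernel) e5
  have e8 := step 7 8 (by decide) (by decide +kernel) e7
  interval_cases x <;> assumption

/-- A group acting on the rows as a group of automorphisms of Fi22 does. -/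
structure Frame (A : Type*) [Group A] where
  /-- the action -/
  θ : A →* Equiv.Perm Row
  /-- compatibility with the transpositions -/
  equi : ∀ (α : A) (p r : Row), θ α (act (T p) r) = act (T (θ α p)) (θ α r)
  /-- agreement on the nine letters suffices -/
  ext9 : ∀ α β : A, (∀ x < 9, θ α (gl x) = θ β (gl x)) → α = β
  /-- inner elements -/
  inner : ∀ g : 𝔾, ∃ α : A, θ α = act g
  /-- the diagram automorphism -/
  outer : ∃ α : A, ∀ r : Row, ((θ α r : Row) : ℕ) = piTree.get r
  /-- the order -/
  card_le : Nat.card A ≤ 2 * 64561751654400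

/-- Transport along an isomorphism. -/
noncomputable def Frame.map {A B : Type*} [Group A] [Group B] (F : Frame A) (e : B ≃* A) : Frame B where
  θ := F.θ.comp e.toMonoidHom
  equi α p r := F.equi (e α) p r
  ext9 α β h := e.injective (F.ext9 _ _ h)
  inner g := by
    obtain ⟨α, h⟩ := F.inner g
    exact ⟨e.symm α, by simp [h]⟩
  outer := by
    obtain ⟨α, h⟩ := F.outer
    exact ⟨e.symm α, fun r => by simp [h]⟩
  card_le := (Nat.card_congr e.toEquiv).trans_le F.card_le

theorem exists_theta_row (α : MulAut 𝔾) (r : Row) : ∃ s : Row, α (T r) = T s := by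
  obtain ⟨r₀, hr₀⟩ := image_a α
  refine ⟨act (α (gr r)) r₀, ?_⟩
  rw [T_equiv, ← hr₀, T, map_mul, map_mul, map_inv]

/-- The row of the image of a transposition. -/
noncomputable def img (α : MulAut 𝔾) (r : Row) : Row := (exists_theta_row α r).choose

theorem img_spec (α : MulAut 𝔾) (r : Row) : α (T r) = T (img α r) := (exists_theta_row α r).choose_spec

theorem img_mul (α β : MulAut 𝔾) (r : Row) : img (α * β) r = img α (img β r) :=
  T_inj (by rw [← img_spec, ← img_spec, ← img_spec, MulAut.mul_apply])

theorem img_one (r : Row) : img 1 r = r := T_inj (by rw [← img_spec, MulAut.one_apply])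

/-- The permutation of the rows induced by an automorphism. -/
noncomputable def theta : MulAut 𝔾 →* Equiv.Perm Row where
  toFun α :=
    { toFun := img α
      invFun := img α⁻¹
      left_inv := fun r => by rw [← img_mul, inv_mul_cancel, img_one]
      right_inv := fun r => by rw [← img_mul, mul_inv_cancel, img_one] }
  map_one' := Equiv.ext img_one
  map_mul' α β := Equiv.ext fun r => img_mul α β r

theorem theta_spec (α : MulAut 𝔾) (r : Row) : α (T r) = T (theta α r) := img_spec α r

theorem theta_conj (g : 𝔾) : theta (MulAut.conj g) = act g :=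
  Equiv.ext fun r => T_inj (by rw [← theta_spec, MulAut.conj_apply, T_equiv])

theorem theta_sigma {σ : MulAut 𝔾} (hσ : ∀ x < 9, σ (a x) = a (rv x)) (r : Row) :
    ((theta σ r : Row) : ℕ) = piTree.get r := by
  have hw : ∀ w : List ℕ, σ (w.map a).prod = ((w.map rv).map a).prod := by
    intro w
    induction w with
    | nil => simp
    | cons x w ih =>
      simp only [List.map_cons, List.prod_cons, map_mul, ih]
      congr 1
      by_cases hx : x < 9
      · exact hσ x hx
      · have : ∀ z, 9 ≤ z → a z = 1 := fun z hz => gen_big fits (show FiHat3510.data.ng ≤ z from hz)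
        rw [this x (by omega), map_one, this _ (by unfold rv; split_ifs <;> omega)]
  set s6 : Row := ⟨173, by decide⟩
  have h6 : σ (a 0) = T s6 := by
    rw [hσ 0 (by norm_num), show rv 0 = 6 from rfl, ← gl_spec (show 6 < 9 by norm_num)]
    congr 1
  have h1 := Nat.eq_of_beq_eq_true (Bool.and_eq_true_iff.1 (List.all_eq_true.1 pi_ok r (List.mem_range.2 r.2))).1
  have e : σ (T r) = T (act (σ (gr r)) s6) := by
    rw [T_equiv, ← h6, T, map_mul, map_mul, map_inv]
  rw [← h1, trace_act ((path r).map rv) s6, ← List.map_reverse, ← hw, ← gr]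
  exact congrArg Fin.val (T_inj ((theta_spec σ r).symm.trans e))

/-- The frame of the automorphism group. -/
theorem exists_frame : ∃ F : Frame (MulAut 𝔾), F.θ = theta := by
  have := finite_fi22
  obtain ⟨σ, hσ⟩ := exists_sigma
  refine ⟨{
    θ := theta
    equi := fun α p r => T_inj ?_
    ext9 := fun α β h => ?_
    inner := fun g => ⟨_, theta_conj g⟩
    outer := ⟨σ, theta_sigma hσ⟩
    card_le := ?_ }, rfl⟩
  · rw [← theta_spec, T_equiv, T_equiv, map_mul, map_mul, map_inv, theta_spec, theta_spec]
  · refine MulEquiv.toMonoidHom_injective (hom_ext fun x hx => ?_)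
    rw [← gl_spec hx, MulEquiv.coe_toMonoidHom, MulEquiv.coe_toMonoidHom, theta_spec, theta_spec, h x hx]
  · haveI : Finite (MulAut 𝔾) := Finite.of_injective (fun α : MulAut 𝔾 => (α : 𝔾 → 𝔾)) DFunLike.coe_injective
    have h2 := (Cfsg.Inn 𝔾).index_mul_card
    rw [show (Cfsg.Inn 𝔾).index = Nat.card (Cfsg.Out 𝔾) from Subgroup.index_eq_card _, card_out] at h2
    rw [← h2, ← card_and_faithful.1]
    exact Nat.mul_le_mul_left _ (Nat.card_le_card_of_surjective
      (fun g : 𝔾 => (⟨MulAut.conj g, g, rfl⟩ : Cfsg.Inn 𝔾)) fun ⟨_, g, hg⟩ => ⟨g, Subtype.ext hg⟩)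

namespace Frame

variable {A : Type*} [Group A] (F : Frame A)

theorem injective : Function.Injective F.θ := fun α β h => F.ext9 α β fun x _ => by rw [h]

theorem com_iff' (α : A) (r s : Row) : com (F.θ α r) (F.θ α s) ↔ com r s := by
  unfold com
  rw [← F.equi, (F.θ α).injective.eq_iff]

theorem comB_map (α : A) (r s : Row) : comB (F.θ α r) (F.θ α s) = comB r s := by
  rw [Bool.eq_iff_iff, comB_iff, comB_iff, F.com_iff']

/-- A datum names rows only. -/
def Fits (e : Bool × List ℕ) : Prop := ∀ r ∈ e.2, r < 3510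

theorem exists_word : ∀ w : List ℕ, (∀ r ∈ w, r < 3510) →
    ∃ g : 𝔾, ∀ c : Row, ((act g c : Row) : ℕ) = evW w c
  | [], _ => ⟨1, fun c => by rw [map_one]; rfl⟩
  | r :: w, h => by
    obtain ⟨g, hg⟩ := exists_word w fun x hx => h x (List.mem_cons_of_mem _ hx)
    refine ⟨T ⟨r, h r List.mem_cons_self⟩ * g, fun c => ?_⟩
    rw [map_mul, Equiv.Perm.mul_apply, ← trace_pal, hg]
    rfl

theorem exists_el {e : Bool × List ℕ} (h : Fits e) : ∃ α : A, ∀ c : Row, ((F.θ α c : Row) : ℕ) = ev e c := by
  obtain ⟨g, hg⟩ := exists_word e.2 h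
  obtain ⟨α, hα⟩ := F.inner g
  obtain ⟨σ, hσ⟩ := F.outer
  obtain ⟨b, w⟩ := e
  cases b with
  | false => exact ⟨α, fun c => by rw [hα, hg]; rfl⟩
  | true => exact ⟨σ * α, fun c => by rw [map_mul, Equiv.Perm.mul_apply, hσ, hα, hg]; rfl⟩

/-- The element of a datum. -/
noncomputable def el (e : Bool × List ℕ) : A :=
  @_root_.Classical.epsilon A ⟨1⟩ fun α => ∀ c : Row, ((F.θ α c : Row) : ℕ) = ev e c

theorem el_spec {e : Bool × List ℕ} (h : Fits e) (c : Row) : ((F.θ (F.el e) c : Row) : ℕ) = ev e c := by
  exact _root_.Classical.epsilon_spec (F.exists_el h) c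

theorem eq_of_agree {α β : A} {f g : ℕ → ℕ} (hα : ∀ c : Row, ((F.θ α c : Row) : ℕ) = f c)
    (hβ : ∀ c : Row, ((F.θ β c : Row) : ℕ) = g c) (h : agree f g = true) : α = β := by
  refine F.ext9 α β fun x hx => Fin.ext ?_
  rw [hα, hβ]
  have hlen : glData.length = 9 := rfl
  have := List.all_eq_true.1 h (glData.getD x 0) (by
    rw [List.getD_eq_getElem _ _ (hlen ▸ hx)]; exact List.getElem_mem _)
  exact Nat.eq_of_beq_eq_true this

theorem agree_of_eq {α β : A} {f g : ℕ → ℕ} (hα : ∀ c : Row, ((F.θ α c : Row) : ℕ) = f c)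
    (hβ : ∀ c : Row, ((F.θ β c : Row) : ℕ) = g c) (h : α = β) : agree f g = true := by
  subst h
  refine List.all_eq_true.2 fun c hc => ?_
  obtain ⟨x, hx, rfl⟩ := List.getElem_of_mem hc
  have h1 := hα (gl x)
  have h2 := hβ (gl x)
  rw [show ((gl x : Row) : ℕ) = glData[x] from List.getD_eq_getElem _ _ hx] at h1 h2
  rw [← h1, h2]
  exact Nat.beq_refl _

theorem mul_spec {α β : A} {f g : ℕ → ℕ} (hα : ∀ c : Row, ((F.θ α c : Row) : ℕ) = f c)
    (hβ : ∀ c : Row, ((F.θ β c : Row) : ℕ) = g c) (c : Row) : ((F.θ (α * β) c : Row) : ℕ) = f (g c) := by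
  rw [map_mul, Equiv.Perm.mul_apply, hα, hβ]

theorem one_spec (c : Row) : ((F.θ 1 c : Row) : ℕ) = id (c : ℕ) := by rw [map_one]; rfl

theorem el_T (r : Row) : F.θ (F.el (false, [(r : ℕ)])) = act (T r) := by
  refine Equiv.ext fun c => Fin.ext ?_
  rw [F.el_spec (by intro x hx; rw [List.mem_singleton.1 hx]; exact r.2), ← trace_pal]
  rfl

theorem el_T_conj (α : A) (r : Row) :
    α * F.el (false, [(r : ℕ)]) * α⁻¹ = F.el (false, [((F.θ α r : Row) : ℕ)]) := by
  refine F.injective (Equiv.ext fun c => ?_)
  rw [map_mul, map_mul, Equiv.Perm.mul_apply, Equiv.Perm.mul_apply, F.el_T, F.el_T, F.equi, map_inv,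
    Equiv.Perm.coe_inv, Equiv.apply_symm_apply]

end Frame

end CfsgLib.Recog.SporBound.Fi22Pair
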